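import Mathlib
import Cfsg.Prelude.Def_OddOrderLocal

set_option autoImplicit false

namespace Cfsg.Agent.Lib.Helper20

/-! ### geometric sums -/

/-- `1 + r + ... + r^(y-1)` -/
def gs (r y : ℕ) : ℕ := ∑ i ∈ Finset.range y, r ^ i

@[simp] theorem gs_zero (r : ℕ) : gs r 0 = 0 := by simp [gs]

theorem gs_succ (r y : ℕ) : gs r (y + 1) = gs r y + r ^ y := by simp [gs, Finset.sum_range_succ]

@[simp] theorem gs_one (r : ℕ) : gs r 1 = 1 := by simp [gs]

theorem pow_eq_mul_gs_add_one (d y : ℕ) : (d + 1) ^ y = d * gs (d + 1) y + 1 := by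
  induction y with
  | zero => simp
  | succ y ih =>
    rw [gs_succ, pow_succ]
    nlinarith [ih]

theorem gs_one_left (y : ℕ) : gs 1 y = y := by simp [gs]

theorem gs_ne_zero (r : ℕ) {y : ℕ} (hy : y ≠ 0) : gs r y ≠ 0 := by
  obtain ⟨z, rfl⟩ := Nat.exists_eq_succ_of_ne_zero hy
  rw [Nat.succ_eq_add_one]
  induction z with
  | zero => simp
  | succ z ih => rw [gs_succ]; omega

/-- lifting the exponent, in the form used below -/
theorem pow_dvd_gs_iff {p : ℕ} [hp : Fact p.Prime] (hodd : p ≠ 2) (d : ℕ) (hd : p ∣ d) (y s : ℕ) :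
    p ^ s ∣ gs (d + 1) y ↔ p ^ s ∣ y := by
  rcases Nat.eq_zero_or_pos y with rfl | hy
  · simp
  rcases Nat.eq_zero_or_pos d with rfl | hd0
  · rw [zero_add, gs_one_left]
  have hoddp : Odd p := hp.out.odd_of_ne_two hodd
  have h1 := padicValNat.pow_sub_pow (p := p) (x := d + 1) (y := 1) hoddp (by omega) (by simpa using hd)
    (by
      intro h
      have : p ∣ 1 := (Nat.dvd_add_right hd).1 h
      exact hp.out.one_lt.ne' (Nat.dvd_one.1 this)) (n := y) hy.ne'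
  have h2 : (d + 1) ^ y - 1 ^ y = d * gs (d + 1) y := by
    rw [pow_eq_mul_gs_add_one, one_pow]; simp
  have h3 : d + 1 - 1 = d := by simp
  rw [h2, h3, padicValNat.mul hd0.ne' (gs_ne_zero _ hy.ne')] at h1
  have h4 : padicValNat p (gs (d + 1) y) = padicValNat p y := by omega
  rw [padicValNat_dvd_iff_le (gs_ne_zero _ hy.ne'), padicValNat_dvd_iff_le hy.ne', h4]

/-! ### metacyclic data -/

/-- Generators and relation of a metacyclic `p`-group. -/
structure MC (G : Type*) [Group G] (p : ℕ) where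
  a : G
  b : G
  d : ℕ
  hd : p ∣ d
  hconj : b * a * b⁻¹ = a ^ (d + 1)
  hgen : ∀ g : G, ∃ x y : ℕ, g = a ^ x * b ^ y
  hN : (Subgroup.zpowers a).Normal

theorem exists_MC {G : Type*} [Group G] [Finite G] {p : ℕ} [hp : Fact p.Prime] (hG : IsPGroup p G)
    (hmc : Cfsg.IsMetacyclic G) : Nonempty (MC G p) := by
  obtain ⟨N, hN, ⟨⟨a, haN⟩, ha⟩, ⟨bb, hb⟩⟩ := hmc
  obtain ⟨b, rfl⟩ := QuotientGroup.mk_surjective bb
  have hNa : N = Subgroup.zpowers a := by
    apply le_antisymm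
    · intro x hx
      obtain ⟨k, hk⟩ := ha ⟨x, hx⟩
      have h0 : a ^ k = x := by
        have := congrArg Subtype.val hk
        simpa using this
      rw [← h0]
      exact Subgroup.zpow_mem _ (Subgroup.mem_zpowers a) k
    · exact Subgroup.zpowers_le.2 haN
  have h1 : b * a * b⁻¹ ∈ Subgroup.zpowers a := hNa ▸ hN.conj_mem a haN b
  rw [← mem_powers_iff_mem_zpowers] at h1
  obtain ⟨r, hr⟩ := h1
  have hr' : b * a * b⁻¹ = a ^ r := hr.symm
  have hgen : ∀ g : G, ∃ x y : ℕ, g = a ^ x * b ^ y := by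
    intro g
    have h2 : (QuotientGroup.mk g : G ⧸ N) ∈ Subgroup.zpowers (QuotientGroup.mk b : G ⧸ N) :=
      hb (QuotientGroup.mk g)
    rw [← mem_powers_iff_mem_zpowers] at h2
    obtain ⟨y, hy⟩ := h2
    have hy' : (QuotientGroup.mk (b ^ y) : G ⧸ N) = QuotientGroup.mk g := hy
    rw [QuotientGroup.eq] at hy'
    have h3 : g * (b ^ y)⁻¹ ∈ N := by
      have := hN.conj_mem _ hy' (b ^ y)
      simpa [mul_assoc] using this
    rw [hNa, ← mem_powers_iff_mem_zpowers] at h3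
    obtain ⟨x, hx⟩ := h3
    have hx' : a ^ x = g * (b ^ y)⁻¹ := hx
    exact ⟨x, y, by rw [hx']; group⟩
  by_cases ha1 : a = 1
  · exact ⟨⟨a, b, 0, dvd_zero p, by rw [ha1]; simp, hgen, hNa ▸ hN⟩⟩
  -- conjugation by powers of b
  have hpow : ∀ j : ℕ, b ^ j * a * (b ^ j)⁻¹ = a ^ (r ^ j) := by
    intro j
    induction j with
    | zero => simp
    | succ j ih =>
      have h4 : b ^ (j + 1) * a * (b ^ (j + 1))⁻¹ = b * (b ^ j * a * (b ^ j)⁻¹) * b⁻¹ := by
        rw [pow_succ']; group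
      rw [h4, ih]
      have h5 : b * a ^ (r ^ j) * b⁻¹ = (b * a * b⁻¹) ^ (r ^ j) := by
        rw [conj_pow]
      rw [h5, hr', ← pow_mul, pow_succ']
  obtain ⟨β, hβ⟩ := hG b
  have h6 := hpow (p ^ β)
  rw [hβ] at h6
  simp only [one_mul, inv_one, mul_one] at h6
  -- so r ^ (p ^ β) ≡ 1 modulo the order of a
  have h7 : a ^ (r ^ p ^ β) = a ^ 1 := by rw [← h6, pow_one]
  rw [pow_eq_pow_iff_modEq] at h7
  have hpa : p ∣ orderOf a := by
    obtain ⟨m, hm⟩ := hG a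
    obtain ⟨j, -, hj⟩ := (Nat.dvd_prime_pow hp.out).1 (orderOf_dvd_of_pow_eq_one hm)
    rcases j with _ | j
    · exfalso; apply ha1
      rw [pow_zero, orderOf_eq_one_iff] at hj; exact hj
    · rw [hj]; exact dvd_pow_self p (by omega)
  have h8 : r ^ p ^ β ≡ 1 [MOD p] := h7.of_dvd hpa
  have h9 : ((r : ZMod p)) = 1 := by
    have := (ZMod.natCast_eq_natCast_iff _ _ _).2 h8
    push_cast at this
    rwa [ZMod.pow_card_pow] at this
  have hr0 : r ≠ 0 := by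
    rintro rfl
    simp at h9
  have h10 : p ∣ r - 1 := by
    have h11 : ((r : ZMod p)) = ((1 : ℕ) : ZMod p) := by rw [h9]; simp
    have h12 := (ZMod.natCast_eq_natCast_iff _ _ _).1 h11
    exact (Nat.modEq_iff_dvd' (by omega)).1 h12.symm
  exact ⟨⟨a, b, r - 1, h10, by rw [hr']; congr 1; omega, hgen, hNa ▸ hN⟩⟩

namespace MC

variable {G : Type*} [Group G] {p : ℕ} (D : MC G p)

/-- the multiplier -/
def r : ℕ := D.d + 1

/-- generator of the derived subgroup -/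
def c : G := D.a ^ D.d

theorem b_mul_a_pow (x : ℕ) : D.b * D.a ^ x = D.a ^ (x * D.r) * D.b := by
  have h : D.b * D.a ^ x * D.b⁻¹ = (D.b * D.a * D.b⁻¹) ^ x := by rw [conj_pow]
  rw [D.hconj, ← pow_mul] at h
  have h2 : D.b * D.a ^ x = (D.b * D.a ^ x * D.b⁻¹) * D.b := by group
  rw [h2, h, mul_comm x]
  rfl

theorem b_pow_mul_a_pow (y x : ℕ) : D.b ^ y * D.a ^ x = D.a ^ (x * D.r ^ y) * D.b ^ y := by
  induction y generalizing x with
  | zero => simp
  | succ y ih =>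
    rw [pow_succ, mul_assoc, b_mul_a_pow, ← mul_assoc, ih, mul_assoc]
    congr 2
    rw [pow_succ]; ring

theorem mul_formula (x y u v : ℕ) :
    (D.a ^ x * D.b ^ y) * (D.a ^ u * D.b ^ v) = D.a ^ (x + u * D.r ^ y) * D.b ^ (y + v) := by
  rw [mul_assoc, ← mul_assoc (D.b ^ y), b_pow_mul_a_pow, pow_add, pow_add]
  simp only [mul_assoc]

theorem a_pow_mul_r_pow (u y : ℕ) : D.a ^ (u * D.r ^ y) = D.c ^ (u * gs D.r y) * D.a ^ u := by
  unfold c r
  rw [pow_eq_mul_gs_add_one, ← pow_mul, ← pow_add]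
  congr 1
  ring

/-- the basic commutation formula -/
theorem mul_formula' (x y u v : ℕ) :
    (D.a ^ x * D.b ^ y) * (D.a ^ u * D.b ^ v) = D.c ^ (u * gs D.r y) * (D.a ^ (x + u) * D.b ^ (y + v)) := by
  rw [mul_formula, pow_add, a_pow_mul_r_pow, pow_add]
  have h : Commute (D.a ^ x) (D.c ^ (u * gs D.r y)) := by
    unfold c
    rw [← pow_mul]
    exact (Commute.refl D.a).pow_pow _ _
  rw [← mul_assoc (D.a ^ x), h.eq, pow_add]
  simp only [mul_assoc]

theorem commute_iff (x y u v : ℕ) :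
    (D.a ^ u * D.b ^ v) * (D.a ^ x * D.b ^ y) = (D.a ^ x * D.b ^ y) * (D.a ^ u * D.b ^ v) ↔
      D.c ^ (x * gs D.r v) = D.c ^ (u * gs D.r y) := by
  rw [mul_formula', mul_formula', add_comm u x, add_comm v y]
  exact mul_left_inj _

/-- power formula -/
theorem pow_formula (x y j : ℕ) :
    (D.a ^ x * D.b ^ y) ^ j = D.a ^ (x * gs (D.r ^ y) j) * D.b ^ (y * j) := by
  induction j with
  | zero => simp
  | succ j ih =>
    rw [pow_succ, ih, mul_formula, gs_succ]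
    congr 2
    · rw [← pow_mul]; ring

theorem closure_eq_top : Subgroup.closure ({D.a, D.b} : Set G) = ⊤ := by
  rw [eq_top_iff]
  intro g _
  obtain ⟨x, y, rfl⟩ := D.hgen g
  exact mul_mem (pow_mem (Subgroup.subset_closure (by simp)) _) (pow_mem (Subgroup.subset_closure (by simp)) _)

theorem c_eq : D.c = D.b * D.a * D.b⁻¹ * D.a⁻¹ := by
  rw [D.hconj, pow_succ]; unfold c; group

theorem conj_c (g : G) : ∃ j : ℕ, g * D.c * g⁻¹ = D.c ^ j := by
  obtain ⟨x, y, rfl⟩ := D.hgen g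
  refine ⟨D.r ^ y, ?_⟩
  have h1 : D.b ^ y * D.c = D.c ^ (D.r ^ y) * D.b ^ y := by
    unfold c
    rw [b_pow_mul_a_pow, ← pow_mul]
  have h2 : Commute (D.a ^ x) (D.c ^ (D.r ^ y)) := by
    unfold c
    rw [← pow_mul]
    exact (Commute.refl D.a).pow_pow _ _
  calc D.a ^ x * D.b ^ y * D.c * (D.a ^ x * D.b ^ y)⁻¹
      = D.a ^ x * (D.b ^ y * D.c) * (D.b ^ y)⁻¹ * (D.a ^ x)⁻¹ := by group
    _ = D.a ^ x * (D.c ^ (D.r ^ y) * D.b ^ y) * (D.b ^ y)⁻¹ * (D.a ^ x)⁻¹ := by rw [h1]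
    _ = (D.a ^ x * D.c ^ (D.r ^ y)) * (D.a ^ x)⁻¹ := by group
    _ = (D.c ^ (D.r ^ y) * D.a ^ x) * (D.a ^ x)⁻¹ := by rw [h2.eq]
    _ = D.c ^ (D.r ^ y) := by group

/-- every subgroup generated by a power of `c` is normal -/
theorem zpowers_c_pow_normal (j : ℕ) : (Subgroup.zpowers (D.c ^ j)).Normal := by
  constructor
  intro n hn g
  obtain ⟨k, rfl⟩ := Subgroup.mem_zpowers_iff.1 hn
  obtain ⟨i, hi⟩ := D.conj_c g
  have h1 : g * (D.c ^ j) ^ k * g⁻¹ = ((g * D.c * g⁻¹) ^ j) ^ k := by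
    rw [conj_pow, conj_zpow]
  rw [h1, hi, ← pow_mul, mul_comm i j, pow_mul]
  exact Subgroup.zpow_mem _ (Subgroup.pow_mem _ (Subgroup.mem_zpowers _) _) _

end MC

end Cfsg.Agent.Lib.Helper20
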