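import Mathlib
import Cfsg.Agent.Lib.Helper20.Metacyclic1
import Cfsg.Agent.Lib.Helper20.ConjClass

set_option autoImplicit false

namespace Cfsg.Agent.Lib.Helper20

theorem commutator_le_of_closure {G : Type*} [Group G] (N : Subgroup G) [N.Normal] (k : Set G)
    (hk : Subgroup.closure k = ⊤)
    (h : ∀ x ∈ k, ∀ y ∈ k, x * y * x⁻¹ * y⁻¹ ∈ N) : commutator G ≤ N := by
  rw [← Subgroup.Normal.quotient_commutative_iff_commutator_le]
  have h1 : Subgroup.closure ((QuotientGroup.mk' N) '' k) = ⊤ := by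
    rw [← MonoidHom.map_closure, hk, ← MonoidHom.range_eq_map, MonoidHom.range_eq_top]
    exact QuotientGroup.mk'_surjective N
  have h2 : IsMulCommutative (Subgroup.closure ((QuotientGroup.mk' N) '' k)) := by
    apply Subgroup.isMulCommutative_closure
    rintro _ ⟨x, hx, rfl⟩ _ ⟨y, hy, rfl⟩
    have h3 := h x hx y hy
    have h4 : (QuotientGroup.mk' N) (x * y * x⁻¹ * y⁻¹) = 1 := by
      rw [QuotientGroup.mk'_apply, QuotientGroup.eq_one_iff]; exact h3
    rw [map_mul, map_mul, map_mul, map_inv, map_inv] at h4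
    have h5 := mul_inv_eq_one.1 h4
    exact mul_inv_eq_iff_eq_mul.1 h5
  refine ⟨⟨fun a b => ?_⟩⟩
  have ha : a ∈ Subgroup.closure ((QuotientGroup.mk' N) '' k) := h1 ▸ Subgroup.mem_top a
  have hb : b ∈ Subgroup.closure ((QuotientGroup.mk' N) '' k) := h1 ▸ Subgroup.mem_top b
  have := h2.is_comm.comm ⟨a, ha⟩ ⟨b, hb⟩
  exact congrArg Subtype.val this

/-- in a `p`-group, `p^j`-th powers lie in every subgroup of index at most `p^j` -/
theorem pow_mem_of_index_le {G : Type*} [Group G] [Finite G] {p : ℕ} [hp : Fact p.Prime] (hG : IsPGroup p G)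
    (C : Subgroup G) (j : ℕ) (h : C.index ≤ p ^ j) (g : G) : g ^ (p ^ j) ∈ C := by
  set K := Subgroup.zpowers g with hK
  have h1 : C.relIndex K ≤ C.index := by
    rw [← Subgroup.relIndex_top_right]
    apply Subgroup.relIndex_le_of_le_right le_top
    rw [Subgroup.relIndex_top_right]
    exact Subgroup.index_ne_zero_of_finite
  have h2 : (C.subgroupOf K).index ∣ Nat.card K := Subgroup.index_dvd_card _
  obtain ⟨e, he⟩ := (hG.to_subgroup K).exists_card_eq
  rw [he] at h2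
  obtain ⟨i, -, hi⟩ := (Nat.dvd_prime_pow hp.out).1 h2
  have hij : i ≤ j := by
    have h3 : p ^ i ≤ p ^ j := by
      rw [← hi]; exact h1.trans h
    exact (Nat.pow_le_pow_iff_right hp.out.one_lt).1 h3
  haveI : (C.subgroupOf K).Normal := by
    constructor
    intro n hn x
    have : x * n * x⁻¹ = n := by
      have hc : x * n = n * x := by
        have : IsMulCommutative K := inferInstance
        exact this.is_comm.comm x n
      rw [hc]; group
    rw [this]; exact hn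
  have h4 := (C.subgroupOf K).pow_index_mem ⟨g, Subgroup.mem_zpowers g⟩
  rw [hi, Subgroup.mem_subgroupOf] at h4
  have h5 : g ^ p ^ i ∈ C := h4
  have h6 : p ^ j = p ^ i * p ^ (j - i) := by rw [← pow_add]; congr 1; omega
  rw [h6, pow_mul]
  exact C.pow_mem h5 _

theorem card_fin_dvd (N q t : ℕ) (h : N = q * t) (hq : 0 < q) : Nat.card {x : Fin N // q ∣ (x : ℕ)} = t := by
  subst h
  have e : Fin t ≃ {x : Fin (q * t) // q ∣ (x : ℕ)} :=
    { toFun := fun i => ⟨⟨q * i, Nat.mul_lt_mul_of_pos_left i.2 hq⟩, Dvd.intro _ rfl⟩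
      invFun := fun x => ⟨(x : ℕ) / q, by
        apply Nat.div_lt_of_lt_mul
        exact x.1.2⟩
      left_inv := by
        intro i
        apply Fin.ext
        simp [Nat.mul_div_cancel_left _ hq]
      right_inv := by
        rintro ⟨x, hx⟩
        apply Subtype.ext
        apply Fin.ext
        exact Nat.mul_div_cancel' hx }
  rw [← Nat.card_congr e, Nat.card_fin]

namespace MC

variable {G : Type*} [Group G] {p : ℕ} (D : MC G p)

theorem commutator_eq : commutator G = Subgroup.zpowers D.c := by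
  haveI : (Subgroup.zpowers D.c).Normal := by
    have := D.zpowers_c_pow_normal 1
    rwa [pow_one] at this
  apply le_antisymm
  · apply commutator_le_of_closure _ _ D.closure_eq_top
    have hc : D.b * D.a * D.b⁻¹ * D.a⁻¹ ∈ Subgroup.zpowers D.c := by
      rw [← D.c_eq]; exact Subgroup.mem_zpowers _
    rintro x (hx | hx) y (hy | hy)
    · rw [hx, hy]
      have h0 : D.a * D.a * D.a⁻¹ * D.a⁻¹ = 1 := by group
      rw [h0]; exact one_mem _
    · rw [Set.mem_singleton_iff] at hy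
      rw [hx, hy]
      have h0 : D.a * D.b * D.a⁻¹ * D.b⁻¹ = (D.b * D.a * D.b⁻¹ * D.a⁻¹)⁻¹ := by group
      rw [h0]; exact inv_mem hc
    · rw [Set.mem_singleton_iff] at hx
      rw [hx, hy]
      exact hc
    · rw [Set.mem_singleton_iff] at hx hy
      rw [hx, hy]
      have h0 : D.b * D.b * D.b⁻¹ * D.b⁻¹ = 1 := by group
      rw [h0]; exact one_mem _
  · rw [Subgroup.zpowers_le, D.c_eq, ← commutatorElement_def]
    exact Subgroup.commutator_mem_commutator (Subgroup.mem_top _) (Subgroup.mem_top _)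

theorem card_commutator : Nat.card (commutator G) = orderOf D.c := by
  rw [D.commutator_eq, Nat.card_zpowers]

/-- commutators in coordinates -/
theorem conj_mul_inv (x y u v : ℕ) :
    (D.a ^ u * D.b ^ v) * (D.a ^ x * D.b ^ y) * (D.a ^ u * D.b ^ v)⁻¹ * (D.a ^ x * D.b ^ y)⁻¹ =
      D.c ^ (x * gs D.r v) * (D.c ^ (u * gs D.r y))⁻¹ := by
  have h1 := D.mul_formula' u v x y
  have h2 := D.mul_formula' x y u v
  rw [add_comm x u, add_comm y v] at h2
  set g := D.a ^ x * D.b ^ y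
  set h := D.a ^ u * D.b ^ v
  set w := D.a ^ (u + x) * D.b ^ (v + y)
  have h3 : w = (D.c ^ (u * gs D.r y))⁻¹ * (g * h) := by rw [h2]; group
  rw [h1, h3]; group

variable [Finite G] [hp : Fact p.Prime]

theorem index_centralizer_le_iff (hodd : p ≠ 2) (hG : IsPGroup p G) {n : ℕ} (hn : orderOf D.c = p ^ n)
    {s : ℕ} (hs : s ≤ n) (x y : ℕ) :
    (Subgroup.centralizer ({D.a ^ x * D.b ^ y} : Set G)).index ≤ p ^ (n - s) ↔ p ^ s ∣ x ∧ p ^ s ∣ y := by
  have hpp : p.Prime := hp.out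
  have hc1 : ∀ j : ℕ, D.c ^ j = 1 ↔ p ^ n ∣ j := by
    intro j; rw [← hn, orderOf_dvd_iff_pow_eq_one]
  constructor
  · intro h
    have hsplit : p ^ n = p ^ (n - s) * p ^ s := by rw [← pow_add]; congr 1; omega
    constructor
    · have h1 := pow_mem_of_index_le hG _ _ h D.b
      rw [Subgroup.mem_centralizer_singleton_iff] at h1
      have h2 := (D.commute_iff x y 0 (p ^ (n - s))).1 (by simpa using h1)
      rw [zero_mul, pow_zero, hc1] at h2
      -- gs r (p^(n-s)) = p^(n-s) * q with p ∤ q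
      have h3 : p ^ (n - s) ∣ gs D.r (p ^ (n - s)) := (pow_dvd_gs_iff hodd D.d D.hd _ _).2 dvd_rfl
      obtain ⟨q, hq⟩ := h3
      have h4 : ¬ p ∣ q := by
        intro hpq
        have h5 : p ^ (n - s + 1) ∣ gs D.r (p ^ (n - s)) := by
          rw [hq, pow_succ]; exact Nat.mul_dvd_mul_left _ hpq
        have h6 := (pow_dvd_gs_iff hodd D.d D.hd _ _).1 h5
        have h7 := (Nat.pow_dvd_pow_iff_le_right hpp.one_lt).1 h6
        omega
      rw [hq, hsplit] at h2
      have h5 : p ^ (n - s) * p ^ s ∣ p ^ (n - s) * (x * q) := by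
        have : x * (p ^ (n - s) * q) = p ^ (n - s) * (x * q) := by ring
        rwa [this] at h2
      have h6 := Nat.dvd_of_mul_dvd_mul_left (pow_pos hpp.pos _) h5
      exact Nat.Coprime.dvd_of_dvd_mul_right
        (Nat.Coprime.pow_left s ((Nat.Prime.coprime_iff_not_dvd hpp).2 h4)) h6
    · have h1 := pow_mem_of_index_le hG _ _ h D.a
      rw [Subgroup.mem_centralizer_singleton_iff] at h1
      have h2 := (D.commute_iff x y (p ^ (n - s)) 0).1 (by simpa using h1)
      rw [gs_zero, mul_zero, pow_zero, eq_comm, hc1, hsplit] at h2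
      have h3 := Nat.dvd_of_mul_dvd_mul_left (pow_pos hpp.pos _) h2
      exact (pow_dvd_gs_iff hodd D.d D.hd _ _).1 h3
  · rintro ⟨hx, hy⟩
    set g := D.a ^ x * D.b ^ y with hg
    have hK : Nat.card (Subgroup.zpowers (D.c ^ (p ^ s))) = p ^ (n - s) := by
      rw [Nat.card_zpowers, orderOf_pow_of_dvd (pow_ne_zero _ hpp.ne_zero) (by rw [hn]; exact pow_dvd_pow p hs), hn,
        Nat.pow_div hs hpp.pos]
    rw [← card_conjClass_eq_index, ← hK]
    have hmem : ∀ y' : {y' : G | IsConj g y'}, (y' : G) * g⁻¹ ∈ Subgroup.zpowers (D.c ^ (p ^ s)) := by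
      rintro ⟨y', hy'⟩
      obtain ⟨h, rfl⟩ := isConj_iff.1 hy'
      obtain ⟨u, v, rfl⟩ := D.hgen h
      change D.a ^ u * D.b ^ v * g * (D.a ^ u * D.b ^ v)⁻¹ * g⁻¹ ∈ _
      rw [hg, D.conj_mul_inv]
      obtain ⟨x', rfl⟩ := hx
      obtain ⟨y'', hy''⟩ := (pow_dvd_gs_iff hodd D.d D.hd y s).2 hy
      apply mul_mem
      · rw [mul_assoc, pow_mul]
        exact Subgroup.pow_mem _ (Subgroup.mem_zpowers _) _
      · apply inv_mem
        have : gs D.r y = p ^ s * y'' := hy''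
        rw [this, mul_comm u, mul_assoc, pow_mul]
        exact Subgroup.pow_mem _ (Subgroup.mem_zpowers _) _
    apply Nat.card_le_card_of_injective
      (fun y' : {y' : G | IsConj g y'} => (⟨(y' : G) * g⁻¹, hmem y'⟩ : Subgroup.zpowers (D.c ^ (p ^ s))))
    intro y1 y2 h
    have h1 : (y1 : G) * g⁻¹ = y2 * g⁻¹ := congrArg Subtype.val h
    exact Subtype.ext (mul_right_cancel h1)

/-- coordinates -/
theorem exists_coordinates (hG : IsPGroup p G) : ∃ m k : ℕ, orderOf D.a = p ^ m ∧ (Subgroup.zpowers D.a).index = p ^ k ∧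
    Function.Bijective (fun z : Fin (p ^ m) × Fin (p ^ k) => D.a ^ (z.1 : ℕ) * D.b ^ (z.2 : ℕ)) := by
  have hpp : p.Prime := hp.out
  obtain ⟨m, hm⟩ := (hG.to_subgroup (Subgroup.zpowers D.a)).exists_card_eq
  rw [Nat.card_zpowers] at hm
  obtain ⟨e, he⟩ := hG.exists_card_eq
  have h1 : (Subgroup.zpowers D.a).index ∣ p ^ e := he ▸ Subgroup.index_dvd_card _
  obtain ⟨k, -, hk⟩ := (Nat.dvd_prime_pow hpp).1 h1
  refine ⟨m, k, hm, hk, ?_⟩
  apply Function.Surjective.bijective_of_nat_card_le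
  · intro g
    obtain ⟨x, y, rfl⟩ := D.hgen g
    haveI := D.hN
    have h2 : D.b ^ (p ^ k) ∈ Subgroup.zpowers D.a := hk ▸ (Subgroup.zpowers D.a).pow_index_mem D.b
    rw [← mem_powers_iff_mem_zpowers] at h2
    obtain ⟨t, ht⟩ := h2
    have ht' : D.a ^ t = D.b ^ (p ^ k) := ht
    refine ⟨(⟨(x + t * (y / p ^ k)) % p ^ m, Nat.mod_lt _ (pow_pos hpp.pos _)⟩,
      ⟨y % p ^ k, Nat.mod_lt _ (pow_pos hpp.pos _)⟩), ?_⟩
    change D.a ^ ((x + t * (y / p ^ k)) % p ^ m) * D.b ^ (y % p ^ k) = _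
    rw [← hm, pow_mod_orderOf, pow_add, pow_mul, ht', ← pow_mul, mul_assoc, ← pow_add, Nat.div_add_mod]
  · rw [Nat.card_prod, Nat.card_fin, Nat.card_fin, ← hm, ← hk, ← Nat.card_zpowers, Subgroup.card_mul_index]

theorem le_of_orderOf_c (hodd : p ≠ 2) {n m k : ℕ} (hn : orderOf D.c = p ^ n) (hm : orderOf D.a = p ^ m)
    (hk : (Subgroup.zpowers D.a).index = p ^ k) : n ≤ m ∧ n ≤ k := by
  have hpp : p.Prime := hp.out
  constructor
  · have h1 : orderOf D.c ∣ orderOf D.a := orderOf_pow_dvd _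
    rw [hn, hm] at h1
    exact (Nat.pow_dvd_pow_iff_le_right hpp.one_lt).1 h1
  · haveI := D.hN
    have h2 : D.b ^ (p ^ k) ∈ Subgroup.zpowers D.a := hk ▸ (Subgroup.zpowers D.a).pow_index_mem D.b
    rw [← mem_powers_iff_mem_zpowers] at h2
    obtain ⟨t, ht⟩ := h2
    have ht' : D.a ^ t = D.b ^ (p ^ k) := ht
    have h3 : D.b ^ (p ^ k) * D.a = D.a * D.b ^ (p ^ k) := by
      rw [← ht', ← pow_succ, ← pow_succ']
    have h4 := (D.commute_iff 1 0 0 (p ^ k)).1 (by simpa using h3)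
    rw [zero_mul, pow_zero, one_mul, ← orderOf_dvd_iff_pow_eq_one, hn] at h4
    have h5 := (pow_dvd_gs_iff hodd D.d D.hd _ _).1 h4
    exact (Nat.pow_dvd_pow_iff_le_right hpp.one_lt).1 h5

/-- the number of elements with class size at most `p^(n-s)` -/
theorem card_index_le (hodd : p ≠ 2) (hG : IsPGroup p G) {n : ℕ} (hn : orderOf D.c = p ^ n)
    {s : ℕ} (hs : s ≤ n) :
    Nat.card {g : G // (Subgroup.centralizer ({g} : Set G)).index ≤ p ^ (n - s)} * p ^ (2 * s) = Nat.card G := by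
  have hpp : p.Prime := hp.out
  obtain ⟨m, k, hm, hk, hbij⟩ := D.exists_coordinates hG
  obtain ⟨hnm, hnk⟩ := D.le_of_orderOf_c hodd hn hm hk
  let e := Equiv.ofBijective _ hbij
  have h1 : Nat.card {g : G // (Subgroup.centralizer ({g} : Set G)).index ≤ p ^ (n - s)} =
      Nat.card {z : Fin (p ^ m) × Fin (p ^ k) // p ^ s ∣ (z.1 : ℕ) ∧ p ^ s ∣ (z.2 : ℕ)} := by
    apply Nat.card_congr
    symm
    apply e.subtypeEquiv
    intro z
    exact (D.index_centralizer_le_iff hodd hG hn hs z.1 z.2).symm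
  rw [h1, Nat.card_congr (Equiv.subtypeProdEquivProd (p := fun a : Fin (p ^ m) => p ^ s ∣ (a : ℕ))
    (q := fun b : Fin (p ^ k) => p ^ s ∣ (b : ℕ))), Nat.card_prod,
    card_fin_dvd (p ^ m) (p ^ s) (p ^ (m - s)) (by rw [← pow_add]; congr 1; omega) (pow_pos hpp.pos _),
    card_fin_dvd (p ^ k) (p ^ s) (p ^ (k - s)) (by rw [← pow_add]; congr 1; omega) (pow_pos hpp.pos _),
    ← Subgroup.card_mul_index (Subgroup.zpowers D.a), Nat.card_zpowers, hm, hk, ← pow_add, ← pow_add, ← pow_add]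
  congr 1
  omega

end MC

end Cfsg.Agent.Lib.Helper20
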