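import Mathlib
import Cfsg.Agent.Lib.Helper20.Metacyclic2

set_option autoImplicit false

namespace Cfsg.Agent.Lib.Helper20

theorem index_centralizer_le_one_iff {G : Type*} [Group G] [Finite G] (g : G) :
    (Subgroup.centralizer ({g} : Set G)).index ≤ 1 ↔ g ∈ Subgroup.center G := by
  have h0 : (Subgroup.centralizer ({g} : Set G)).index ≠ 0 := Subgroup.index_ne_zero_of_finite
  constructor
  · intro h
    have h1 : (Subgroup.centralizer ({g} : Set G)).index = 1 := by omega
    rw [Subgroup.index_eq_one] at h1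
    rw [Subgroup.mem_center_iff]
    intro x
    have : x ∈ Subgroup.centralizer ({g} : Set G) := h1 ▸ Subgroup.mem_top x
    exact Subgroup.mem_centralizer_singleton_iff.1 this
  · intro h
    have h1 : Subgroup.centralizer ({g} : Set G) = ⊤ := by
      rw [eq_top_iff]
      intro x _
      exact Subgroup.mem_centralizer_singleton_iff.2 (Subgroup.mem_center_iff.1 h x)
    rw [h1, Subgroup.index_top]

theorem centralizer_singleton_inv {G : Type*} [Group G] (g : G) :
    Subgroup.centralizer ({g⁻¹} : Set G) = Subgroup.centralizer ({g} : Set G) := by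
  ext x
  rw [Subgroup.mem_centralizer_singleton_iff, Subgroup.mem_centralizer_singleton_iff]
  constructor
  · intro h
    calc x * g = g * (g⁻¹ * x) * g := by group
      _ = g * (x * g⁻¹) * g := by rw [h]
      _ = g * x := by group
  · intro h
    calc x * g⁻¹ = g⁻¹ * (g * x) * g⁻¹ := by group
      _ = g⁻¹ * (x * g) * g⁻¹ := by rw [h]
      _ = g⁻¹ * x := by group

namespace MC

variable {G : Type*} [Group G] {p : ℕ} (D : MC G p) [Finite G] [hp : Fact p.Prime]

theorem exists_orderOf_c (hG : IsPGroup p G) : ∃ n : ℕ, orderOf D.c = p ^ n := by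
  obtain ⟨n, hn⟩ := (hG.to_subgroup (Subgroup.zpowers D.c)).exists_card_eq
  rw [Nat.card_zpowers] at hn
  exact ⟨n, hn⟩

theorem card_center_mul (hodd : p ≠ 2) (hG : IsPGroup p G) {n : ℕ} (hn : orderOf D.c = p ^ n) :
    Nat.card (Subgroup.center G) * p ^ (2 * n) = Nat.card G := by
  have h1 := D.card_index_le hodd hG hn le_rfl
  rw [← h1]
  congr 1
  apply Nat.card_congr
  apply Equiv.subtypeEquivRight
  intro g
  rw [Nat.sub_self, pow_zero, index_centralizer_le_one_iff]

/-- the elements of class size at most `p^(n-s)` form the subgroup generated by the `p^s`-th powers -/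
theorem mem_closure_pow_iff (hodd : p ≠ 2) (hG : IsPGroup p G) {n : ℕ} (hn : orderOf D.c = p ^ n)
    {s : ℕ} (hs : s ≤ n) (g : G) :
    g ∈ Subgroup.closure {x : G | ∃ y : G, y ^ p ^ s = x} ↔
      (Subgroup.centralizer ({g} : Set G)).index ≤ p ^ (n - s) := by
  constructor
  · intro hg
    induction hg using Subgroup.closure_induction with
    | mem x hx =>
      obtain ⟨y, rfl⟩ := hx
      obtain ⟨u, v, rfl⟩ := D.hgen y
      rw [D.pow_formula, D.index_centralizer_le_iff hodd hG hn hs]
      refine ⟨Dvd.dvd.mul_left ?_ _, Dvd.intro_left _ rfl⟩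
      have h1 : D.r ^ v = D.d * gs D.r v + 1 := pow_eq_mul_gs_add_one D.d v
      rw [h1]
      exact (pow_dvd_gs_iff hodd _ (Dvd.dvd.mul_right D.hd _) _ _).2 dvd_rfl
    | one =>
      have : (1 : G) = D.a ^ 0 * D.b ^ 0 := by simp
      rw [this, D.index_centralizer_le_iff hodd hG hn hs]
      simp
    | mul x y _ _ hx hy =>
      obtain ⟨x1, x2, rfl⟩ := D.hgen x
      obtain ⟨y1, y2, rfl⟩ := D.hgen y
      rw [D.index_centralizer_le_iff hodd hG hn hs] at hx hy
      rw [D.mul_formula, D.index_centralizer_le_iff hodd hG hn hs]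
      exact ⟨Dvd.dvd.add hx.1 (Dvd.dvd.mul_right hy.1 _), Dvd.dvd.add hx.2 hy.2⟩
    | inv x _ hx => rwa [centralizer_singleton_inv]
  · intro h
    obtain ⟨x, y, rfl⟩ := D.hgen g
    rw [D.index_centralizer_le_iff hodd hG hn hs] at h
    obtain ⟨⟨x', rfl⟩, ⟨y', rfl⟩⟩ := h
    apply mul_mem
    · apply Subgroup.subset_closure
      exact ⟨D.a ^ x', by rw [← pow_mul, mul_comm]⟩
    · apply Subgroup.subset_closure
      exact ⟨D.b ^ y', by rw [← pow_mul, mul_comm]⟩

end MC

end Cfsg.Agent.Lib.Helper20
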