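import Mathlib
import Cfsg.Agent.Lib.Helper20.Metacyclic3
import Cfsg.Agent.Lib.Helper20.PGroup
import Cfsg.Agent.Lib.Helper1.PGrp

set_option autoImplicit false

namespace Cfsg.Agent.Lib.Helper20

universe u

theorem isMetacyclic_subgroup {G : Type u} [Group G] (hmc : Cfsg.IsMetacyclic G) (M : Subgroup G) :
    Cfsg.IsMetacyclic ↥M := by
  obtain ⟨N, hN, hNc, hQc⟩ := hmc
  refine ⟨N.subgroupOf M, inferInstance, ?_, ?_⟩
  · let f : ↥(N.subgroupOf M) →* ↥N :=
      { toFun := fun x => ⟨((x : M) : G), x.2⟩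
        map_one' := rfl
        map_mul' := fun _ _ => rfl }
    apply isCyclic_of_injective f
    intro x y h
    apply Subtype.ext
    apply Subtype.ext
    have h' : (f x : G) = (f y : G) := congrArg Subtype.val h
    exact h'
  · let ψ := QuotientGroup.map (N.subgroupOf M) N M.subtype (fun x hx => hx)
    apply isCyclic_of_injective ψ
    rw [injective_iff_map_eq_one]
    intro a ha
    obtain ⟨a, rfl⟩ := QuotientGroup.mk_surjective a
    rw [QuotientGroup.eq_one_iff]
    have h1 : ψ (QuotientGroup.mk a) = QuotientGroup.mk (M.subtype a) := rfl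
    rw [h1, QuotientGroup.eq_one_iff] at ha
    exact ha

theorem isMulCommutative_iff_commutator_eq_bot {G : Type*} [Group G] (L : Subgroup G) :
    IsMulCommutative ↥L ↔ ⁅L, L⁆ = ⊥ := by
  rw [Subgroup.commutator_eq_bot_iff_le_centralizer, Subgroup.le_centralizer_iff_isMulCommutative]

theorem card_commutator_subgroup {G : Type*} [Group G] (L : Subgroup G) :
    Nat.card (commutator ↥L) = Nat.card (⁅L, L⁆ : Subgroup G) := by
  rw [← Subgroup.map_subtype_commutator, Subgroup.card_map_of_injective L.subtype_injective]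

theorem index_center_eq {G : Type*} [Group G] [Finite G] {p : ℕ} [Fact p.Prime] (hp : p ≠ 2) (hG : IsPGroup p G)
    (hmc : Cfsg.IsMetacyclic G) : (Subgroup.center G).index = Nat.card ↥(commutator G) ^ 2 := by
  obtain ⟨D⟩ := exists_MC hG hmc
  obtain ⟨n, hn⟩ := D.exists_orderOf_c hG
  have h1 := D.card_center_mul hp hG hn
  have h2 := Subgroup.card_mul_index (Subgroup.center G)
  rw [← h1] at h2
  have h3 := Nat.eq_of_mul_eq_mul_left Nat.card_pos h2
  rw [h3, D.card_commutator, hn, ← pow_mul, mul_comm]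

/-- the derived subgroup of a subgroup of index `p` -/
theorem card_commutator_of_index_eq_p {G : Type u} [Group G] [Finite G] {p : ℕ} [hpf : Fact p.Prime] (hp : p ≠ 2)
    (hG : IsPGroup p G) (hmc : Cfsg.IsMetacyclic G) (hna : commutator G ≠ ⊥) (M : Subgroup G) (hM : M.index = p) :
    Nat.card (commutator ↥M) * p = Nat.card (commutator G) := by
  have hpp : p.Prime := hpf.out
  obtain ⟨D⟩ := exists_MC hG hmc
  obtain ⟨n, hn⟩ := D.exists_orderOf_c hG
  have hn1 : 1 ≤ n := by
    rcases n with _ | n
    · exfalso; apply hna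
      rw [← Subgroup.card_eq_one, D.card_commutator, hn, pow_zero]
    · omega
  haveI hMn : M.Normal := normal_of_index_eq_p hG M hM
  have hpowM : ∀ g : G, g ^ p ∈ M := fun g => hM ▸ M.pow_index_mem g
  have hMp : IsPGroup p M := hG.to_subgroup M
  obtain ⟨j, hj⟩ := (hMp.to_subgroup (commutator ↥M)).exists_card_eq
  have hcardM : Nat.card M * p = Nat.card G := by rw [← hM]; exact M.card_mul_index
  have hZG := D.card_center_mul hp hG hn
  -- upper bound
  have hZM : Subgroup.center G ≤ M := by
    intro z hz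
    rw [← index_centralizer_le_one_iff, ← pow_zero p, ← Nat.sub_self n,
      ← D.mem_closure_pow_iff hp hG hn le_rfl] at hz
    have : Subgroup.closure {x : G | ∃ y : G, y ^ p ^ n = x} ≤ M := by
      rw [Subgroup.closure_le]
      rintro x ⟨y, rfl⟩
      have h1 : p ^ n = p ^ (n - 1) * p := by rw [← pow_succ]; congr 1; omega
      rw [h1, pow_mul]
      exact hpowM _
    exact this hz
  have hupper : j ≤ n - 1 := by
    have h1 := index_center_eq hp hMp (isMetacyclic_subgroup hmc M)
    rw [hj, ← pow_mul] at h1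
    have h2 := Subgroup.card_mul_index (Subgroup.center ↥M)
    rw [h1] at h2
    have h3 : Nat.card (Subgroup.center G) ≤ Nat.card (Subgroup.center ↥M) := by
      rw [← Nat.card_congr (Subgroup.subgroupOfEquivOfLe hZM).toEquiv]
      apply Subgroup.card_le_of_le
      rintro ⟨z, hzM⟩ hz
      rw [Subgroup.mem_subgroupOf] at hz
      rw [Subgroup.mem_center_iff]
      rintro ⟨g, hg⟩
      exact Subtype.ext (Subgroup.mem_center_iff.1 hz g)
    have h4 : Nat.card (Subgroup.center G) * p ^ (j * 2) * p ≤ Nat.card (Subgroup.center G) * p ^ (2 * n) := by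
      rw [hZG, ← hcardM, ← h2]
      exact Nat.mul_le_mul_right _ (Nat.mul_le_mul_right _ h3)
    rw [mul_assoc, ← pow_succ] at h4
    have h5 := Nat.le_of_mul_le_mul_left h4 Nat.card_pos
    have h6 := (Nat.pow_le_pow_iff_right hpp.one_lt).1 h5
    omega
  -- lower bound
  have hlower : n - 1 ≤ j := by
    have hT := D.card_index_le hp hG hn hn1
    obtain ⟨g0, hg0M, hg0⟩ : ∃ g0 ∈ M, ¬ (Subgroup.centralizer ({g0} : Set G)).index ≤ p ^ (n - 1) := by
      by_contra hcon
      push Not at hcon
      have h1 : Nat.card M ≤ Nat.card {g : G // (Subgroup.centralizer ({g} : Set G)).index ≤ p ^ (n - 1)} := by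
        apply Nat.card_le_card_of_injective (fun g : M => (⟨g, hcon g g.2⟩ :
          {g : G // (Subgroup.centralizer ({g} : Set G)).index ≤ p ^ (n - 1)}))
        intro x y h
        have h' := congrArg Subtype.val h
        exact Subtype.ext h'
      have h2 : Nat.card M * p ^ (2 * 1) ≤ Nat.card M * p := by
        rw [hcardM, ← hT]
        exact Nat.mul_le_mul_right _ h1
      have h3 := Nat.le_of_mul_le_mul_left h2 Nat.card_pos
      have h4 : p ^ 1 < p ^ (2 * 1) := Nat.pow_lt_pow_right hpp.one_lt (by omega)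
      rw [pow_one] at h4
      omega
    obtain ⟨x, y, rfl⟩ := D.hgen g0
    rw [D.index_centralizer_le_iff hp hG hn hn1, pow_one] at hg0
    have hcp : orderOf (D.c ^ p) = p ^ (n - 1) := by
      rw [orderOf_pow_of_dvd hpp.ne_zero (by rw [hn]; exact dvd_pow_self p (by omega)), hn]
      have h0 := Nat.pow_div hn1 hpp.pos
      rwa [pow_one] at h0
    have key : ∀ q : ℕ, ¬ p ∣ q → D.c ^ (p * q) ∈ (⁅M, M⁆ : Subgroup G) → n - 1 ≤ j := by
      intro q hq hmem
      have h1 : orderOf (D.c ^ (p * q)) = p ^ (n - 1) := by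
        rw [pow_mul, Nat.Coprime.orderOf_pow, hcp]
        rw [hcp]
        exact Nat.Coprime.pow_left _ ((Nat.Prime.coprime_iff_not_dvd hpp).2 hq)
      have h2 : orderOf (D.c ^ (p * q)) ∣ Nat.card (⁅M, M⁆ : Subgroup G) := by
        have := orderOf_dvd_natCard (⟨_, hmem⟩ : (⁅M, M⁆ : Subgroup G))
        rwa [Subgroup.orderOf_mk] at this
      rw [h1, ← card_commutator_subgroup, hj] at h2
      exact (Nat.pow_dvd_pow_iff_le_right hpp.one_lt).1 h2
    by_cases hy : p ∣ y
    · have hx : ¬ p ∣ x := fun h => hg0 ⟨h, hy⟩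
      -- use the commutator with b ^ p
      have h1 := D.conj_mul_inv x y 0 p
      simp only [zero_mul, pow_zero, inv_one, mul_one, one_mul] at h1
      have h2 : p ^ 1 ∣ gs D.r p := (pow_dvd_gs_iff hp D.d D.hd p 1).2 (by simp)
      rw [pow_one] at h2
      obtain ⟨q, hq⟩ := h2
      have hq' : ¬ p ∣ q := by
        intro hpq
        have h3 : p ^ 2 ∣ gs D.r p := by rw [hq, sq]; exact Nat.mul_dvd_mul_left _ hpq
        have h4 := (pow_dvd_gs_iff hp D.d D.hd p 2).1 h3
        have h5 := Nat.le_of_dvd hpp.pos h4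
        have h6 : p ^ 1 < p ^ 2 := Nat.pow_lt_pow_right hpp.one_lt (by omega)
        rw [pow_one] at h6
        omega
      apply key (x * q) (fun h => (hpp.dvd_mul.1 h).elim hx hq')
      have h3 : p * (x * q) = x * gs D.r p := by rw [hq]; ring
      rw [h3, ← h1, ← commutatorElement_def]
      exact Subgroup.commutator_mem_commutator (hpowM _) hg0M
    · -- use the commutator with a ^ p
      have h1 := D.conj_mul_inv x y p 0
      simp only [gs_zero, mul_zero, pow_zero, one_mul, mul_one] at h1
      have hq' : ¬ p ∣ gs D.r y := by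
        intro h
        apply hy
        have := (pow_dvd_gs_iff hp D.d D.hd y 1).1 (by rwa [pow_one])
        rwa [pow_one] at this
      apply key (gs D.r y) hq'
      have h2 : D.c ^ (p * gs D.r y) = (D.a ^ p * (D.a ^ x * D.b ^ y) * (D.a ^ p)⁻¹ * (D.a ^ x * D.b ^ y)⁻¹)⁻¹ := by
        rw [h1, inv_inv]
      rw [h2, ← commutatorElement_def]
      exact inv_mem (Subgroup.commutator_mem_commutator (hpowM _) hg0M)
  have hjn : j = n - 1 := le_antisymm hupper hlower
  rw [hj, D.card_commutator, hn, hjn, ← pow_succ]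
  congr 1; omega

end Cfsg.Agent.Lib.Helper20
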