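import Mathlib

set_option autoImplicit false

namespace Cfsg.Agent.Lib.Helper20

/-- A finite abelian group which is not cyclic contains two elements `z`, `c` of the same prime order `p`
with `c ∉ ⟨z⟩` (so a subgroup `Z_p × Z_p`). -/
theorem exists_prime_order_pair_of_not_isCyclic {G : Type*} [CommGroup G] [Finite G] (h : ¬ IsCyclic G) :
    ∃ p : ℕ, p.Prime ∧ ∃ z c : G, orderOf z = p ∧ orderOf c = p ∧ c ∉ Subgroup.zpowers z := by
  classical
  obtain ⟨a, ha⟩ := Monoid.exists_orderOf_eq_exponent (G := G) Monoid.ExponentExists.of_finite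
  set e := Monoid.exponent G with he
  have he0 : e ≠ 0 := Monoid.exponent_ne_zero_of_finite
  have hne : ∃ b : G, b ∉ Subgroup.zpowers a := by
    by_contra hcon
    push Not at hcon
    exact h ⟨a, hcon⟩
  -- choose b outside ⟨a⟩ of minimal order
  obtain ⟨b, hb, hbmin⟩ : ∃ b : G, b ∉ Subgroup.zpowers a ∧ ∀ b' : G, b' ∉ Subgroup.zpowers a → orderOf b ≤ orderOf b' := by
    have hfin : ({b : G | b ∉ Subgroup.zpowers a}).Finite := Set.toFinite _
    obtain ⟨b, hb, hmin⟩ := Set.exists_min_image {b : G | b ∉ Subgroup.zpowers a} orderOf hfin hne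
    exact ⟨b, hb, hmin⟩
  have hb1 : orderOf b ≠ 1 := by
    intro h1
    rw [orderOf_eq_one_iff] at h1
    exact hb (h1 ▸ one_mem _)
  obtain ⟨p, hp, hpb⟩ := Nat.exists_prime_and_dvd hb1
  have hpe : p ∣ e := hpb.trans (Monoid.order_dvd_exponent b)
  have hbp : b ^ p ∈ Subgroup.zpowers a := by
    by_contra hcon
    have h1 := hbmin _ hcon
    rw [orderOf_pow_of_dvd hp.ne_zero hpb] at h1
    have h2 : orderOf b / p < orderOf b := Nat.div_lt_self (orderOf_pos b) hp.one_lt
    omega
  rw [← mem_powers_iff_mem_zpowers] at hbp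
  obtain ⟨k, hk⟩ := hbp
  obtain ⟨e', he'⟩ := hpe
  have he'0 : e' ≠ 0 := by rintro rfl; exact he0 (by rw [he']; simp)
  have h3 : a ^ (k * e') = 1 := by
    have hk' : a ^ k = b ^ p := hk
    rw [pow_mul, hk', ← pow_mul, ← he', he]
    exact Monoid.pow_exponent_eq_one b
  have h4 : e ∣ k * e' := ha ▸ orderOf_dvd_of_pow_eq_one h3
  have h5 : p ∣ k := by
    rw [he'] at h4
    exact Nat.dvd_of_mul_dvd_mul_right (Nat.pos_of_ne_zero he'0) h4
  obtain ⟨t, ht⟩ := h5
  haveI : Fact p.Prime := ⟨hp⟩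
  refine ⟨p, hp, a ^ e', b * (a ^ t)⁻¹, ?_, ?_, ?_⟩
  · rw [orderOf_pow_of_dvd he'0 (by rw [ha, he']; exact Dvd.intro_left _ rfl), ha, he']
    exact Nat.mul_div_cancel _ (Nat.pos_of_ne_zero he'0)
  · apply orderOf_eq_prime
    · have hk' : a ^ k = b ^ p := hk
      rw [mul_pow, inv_pow, ← pow_mul, mul_comm t p, ← ht, hk', mul_inv_cancel]
    · intro h1
      apply hb
      rw [mul_inv_eq_one] at h1
      rw [h1]
      exact Subgroup.pow_mem _ (Subgroup.mem_zpowers a) t
  · intro h1
    apply hb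
    have h6 : Subgroup.zpowers (a ^ e') ≤ Subgroup.zpowers a :=
      Subgroup.zpowers_le.2 (Subgroup.pow_mem _ (Subgroup.mem_zpowers a) e')
    have h7 := (Subgroup.zpowers a).mul_mem (h6 h1) (Subgroup.pow_mem _ (Subgroup.mem_zpowers a) t)
    simpa using h7

/-- Two distinct subgroups of prime order meet trivially (element form). -/
theorem zpowers_inf_zpowers_eq_bot {G : Type*} [Group G] {p : ℕ} (hp : p.Prime) {z c : G}
    (hc : orderOf c = p) (hcz : c ∉ Subgroup.zpowers z) :
    Subgroup.zpowers z ⊓ Subgroup.zpowers c = ⊥ := by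
  have h1 : Nat.card (Subgroup.zpowers z ⊓ Subgroup.zpowers c : Subgroup G) ∣ p := by
    have := Subgroup.card_dvd_of_le (inf_le_right : Subgroup.zpowers z ⊓ Subgroup.zpowers c ≤ Subgroup.zpowers c)
    rwa [Nat.card_zpowers, hc] at this
  rcases (Nat.dvd_prime hp).1 h1 with h | h
  · exact Subgroup.card_eq_one.1 h
  · exfalso
    haveI : Finite (Subgroup.zpowers c) := by
      apply Nat.finite_of_card_ne_zero
      rw [Nat.card_zpowers, hc]; exact hp.ne_zero
    have h2 : Subgroup.zpowers z ⊓ Subgroup.zpowers c = Subgroup.zpowers c :=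
      Subgroup.eq_of_le_of_card_ge inf_le_right (by rw [h, Nat.card_zpowers, hc])
    apply hcz
    have : c ∈ Subgroup.zpowers z ⊓ Subgroup.zpowers c := by
      rw [h2]; exact Subgroup.mem_zpowers c
    exact this.1

end Cfsg.Agent.Lib.Helper20
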