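import Mathlib

set_option autoImplicit false

namespace Cfsg.Agent.Lib.Helper20

/-- the fixed points of one operator, as a subgroup -/
def fixSubgroup {H P : Type*} [Group H] [Group P] [MulDistribMulAction H P] (h : H) : Subgroup P where
  carrier := {u | h • u = u}
  mul_mem' := by
    intro a b ha hb
    change h • (a * b) = a * b
    rw [smul_mul', ha, hb]
  one_mem' := smul_one h
  inv_mem' := by
    intro a ha
    change h • a⁻¹ = a⁻¹
    rw [smul_inv', ha]

/-- A group acting non-trivially by automorphisms on a finite `p`-group has at most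
`(p+1)|P|/(2p)` orbits. -/
theorem orbit_bound {H P : Type*} [Group H] [Finite H] [Group P] [Finite P] [MulDistribMulAction H P]
    {p : ℕ} [hp : Fact p.Prime] (hP : IsPGroup p P) (hnt : ∃ h : H, ∃ u : P, h • u ≠ u) :
    2 * p * Nat.card (MulAction.orbitRel.Quotient H P) ≤ (p + 1) * Nat.card P := by
  classical
  haveI : Fintype H := Fintype.ofFinite H
  haveI : Fintype P := Fintype.ofFinite P
  haveI : Fintype (MulAction.orbitRel.Quotient H P) := Fintype.ofFinite _
  have hB := MulAction.sum_card_fixedBy_eq_card_orbits_mul_card_group H P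
  set C : Subgroup H := (MulAction.toPermHom H P).ker with hC
  have hCmem : ∀ h : H, h ∈ C ↔ ∀ u : P, h • u = u := by
    intro h
    rw [hC, MonoidHom.mem_ker]
    constructor
    · intro h1 u
      have := congrArg (fun e : Equiv.Perm P => e u) h1
      simpa using this
    · intro h1
      ext u
      simpa using h1 u
  set n := Nat.card P with hn
  have hfix : ∀ h : H, Fintype.card (MulAction.fixedBy P h) = Nat.card (fixSubgroup (P := P) h) := by
    intro h
    rw [← Nat.card_eq_fintype_card]
    rfl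
  have hb1 : ∀ h : H, p * Fintype.card (MulAction.fixedBy P h) ≤ n + if h ∈ C then (p - 1) * n else 0 := by
    intro h
    rw [hfix]
    split_ifs with hh
    · have h1 : Nat.card (fixSubgroup (P := P) h) ≤ n := Subgroup.card_le_card_group _
      have h2 : n + (p - 1) * n = p * n := by
        have : p = (p - 1) + 1 := by have := hp.out.pos; omega
        nth_rewrite 2 [this]
        ring
      rw [h2]
      exact Nat.mul_le_mul_left _ h1
    · have h1 : fixSubgroup (P := P) h ≠ ⊤ := by
        intro h1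
        apply hh
        rw [hCmem]
        intro u
        have : u ∈ fixSubgroup (P := P) h := h1 ▸ Subgroup.mem_top u
        exact this
      have h2 : (fixSubgroup (P := P) h).index ≠ 1 := by
        rw [Ne, Subgroup.index_eq_one]; exact h1
      obtain ⟨k, hk⟩ := hP.exists_card_eq
      have h3 : (fixSubgroup (P := P) h).index ∣ p ^ k := hk ▸ Subgroup.index_dvd_card _
      obtain ⟨j, -, hj⟩ := (Nat.dvd_prime_pow hp.out).1 h3
      have h4 : p ≤ (fixSubgroup (P := P) h).index := by
        rw [hj]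
        rcases Nat.eq_zero_or_pos j with rfl | hj0
        · rw [pow_zero] at hj; exact absurd hj h2
        · exact Nat.le_self_pow hj0.ne' p
      rw [add_zero, hn, ← Subgroup.card_mul_index (fixSubgroup (P := P) h), mul_comm]
      exact Nat.mul_le_mul_left _ h4
  have hsum : p * (Fintype.card (MulAction.orbitRel.Quotient H P) * Fintype.card H) ≤
      Fintype.card H * n + Nat.card C * ((p - 1) * n) := by
    rw [← hB, Finset.mul_sum]
    refine (Finset.sum_le_sum fun h _ => hb1 h).trans ?_
    rw [Finset.sum_add_distrib, Finset.sum_const, Finset.card_univ, smul_eq_mul, Finset.sum_ite,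
      Finset.sum_const, Finset.sum_const_zero, add_zero, smul_eq_mul]
    apply le_of_eq
    congr 2
    rw [Nat.card_eq_fintype_card, Fintype.card_subtype]
  have hCtop : C ≠ ⊤ := by
    intro h1
    obtain ⟨h, u, hu⟩ := hnt
    exact hu ((hCmem h).1 (h1 ▸ Subgroup.mem_top h) u)
  have hC2 : 2 * Nat.card C ≤ Fintype.card H := by
    rw [← Nat.card_eq_fintype_card, ← Subgroup.card_mul_index C, mul_comm]
    apply Nat.mul_le_mul_left
    have h1 : C.index ≠ 1 := by rw [Ne, Subgroup.index_eq_one]; exact hCtop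
    have h2 : C.index ≠ 0 := Subgroup.index_ne_zero_of_finite
    omega
  have hH : 0 < Fintype.card H := Fintype.card_pos
  rw [Nat.card_eq_fintype_card]
  apply Nat.le_of_mul_le_mul_right _ hH
  have hp1 : p + 1 = 2 + (p - 1) := by have := hp.out.pos; omega
  calc 2 * p * Fintype.card (MulAction.orbitRel.Quotient H P) * Fintype.card H
      = 2 * (p * (Fintype.card (MulAction.orbitRel.Quotient H P) * Fintype.card H)) := by ring
    _ ≤ 2 * (Fintype.card H * n + Nat.card C * ((p - 1) * n)) := Nat.mul_le_mul_left _ hsum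
    _ = 2 * Fintype.card H * n + (2 * Nat.card C) * ((p - 1) * n) := by ring
    _ ≤ 2 * Fintype.card H * n + Fintype.card H * ((p - 1) * n) :=
        Nat.add_le_add_left (Nat.mul_le_mul_right _ hC2) _
    _ = (p + 1) * n * Fintype.card H := by rw [hp1]; ring

theorem orderOf_conj_eq {G : Type*} [Group G] (g x : G) : orderOf (g * x * g⁻¹) = orderOf x :=
  (MulAut.conj g).orderOf_eq x

/-- the class of an element whose order satisfies `Q`, among the classes with that property -/
def mkClass {G : Type*} [Group G] (Q : ℕ → Prop) (x : G) (hx : Q (orderOf x)) :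
    {c : ConjClasses G // ∀ y ∈ c.carrier, Q (orderOf y)} :=
  ⟨ConjClasses.mk x, fun y hy => by
    rw [ConjClasses.mem_carrier_iff_mk_eq, ConjClasses.mk_eq_mk_iff_isConj, isConj_iff] at hy
    obtain ⟨c, rfl⟩ := hy
    have h1 : orderOf (c * y * c⁻¹) = orderOf y := orderOf_conj_eq c y
    rw [← h1]; exact hx⟩

theorem mkClass_eq_iff {G : Type*} [Group G] (Q : ℕ → Prop) (x y : G) (hx : Q (orderOf x))
    (hy : Q (orderOf y)) : mkClass Q x hx = mkClass Q y hy ↔ ∃ g : G, g * x * g⁻¹ = y := by
  rw [← isConj_iff, ← ConjClasses.mk_eq_mk_iff_isConj]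
  constructor
  · intro h; exact congrArg Subtype.val h
  · intro h; exact Subtype.ext h

theorem exists_mkClass_eq {G : Type*} [Group G] (Q : ℕ → Prop)
    (c : {c : ConjClasses G // ∀ y ∈ c.carrier, Q (orderOf y)}) :
    ∃ (x : G) (hx : Q (orderOf x)), mkClass Q x hx = c := by
  obtain ⟨c, hc⟩ := c
  obtain ⟨x, rfl⟩ := ConjClasses.mk_surjective c
  exact ⟨x, hc x ConjClasses.mem_carrier_mk, rfl⟩

section
variable {G : Type*} [Group G] [Finite G] {p : ℕ} [hp : Fact p.Prime]

theorem exists_conj_mem_sylow (P : Sylow p G) (x : G) (hx : ∃ k : ℕ, orderOf x = p ^ k) :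
    ∃ g : G, g * x * g⁻¹ ∈ (P : Subgroup G) := by
  have h1 : IsPGroup p (Subgroup.zpowers x) := by
    obtain ⟨k, hk⟩ := hx
    exact IsPGroup.of_card (n := k) (by rw [Nat.card_zpowers, hk])
  obtain ⟨Q, hQ⟩ := h1.exists_le_sylow
  obtain ⟨g, hg⟩ := MulAction.exists_smul_eq G Q P
  refine ⟨g, ?_⟩
  rw [← hg, Sylow.coe_subgroup_smul, Subgroup.mem_pointwise_smul_iff_inv_smul_mem]
  have : (MulAut.conj g)⁻¹ • (g * x * g⁻¹) = x := by
    simp [MulAut.smul_def, mul_assoc]
  rw [this]
  exact hQ (Subgroup.mem_zpowers x)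

theorem orderOf_mem_sylow (P : Sylow p G) (u : (P : Subgroup G)) : ∃ k : ℕ, orderOf (u : G) = p ^ k := by
  obtain ⟨k, hk⟩ := (IsPGroup.iff_orderOf.1 P.2) u
  exact ⟨k, by rw [Subgroup.orderOf_coe]; exact hk⟩

/-- If `N(P) ≠ C(P)` there are at most `(p+1)|P|/(2p)` classes of `p`-elements. -/
theorem card_pclasses_le (P : Sylow p G)
    (h : ¬ Subgroup.normalizer ((P : Subgroup G) : Set G) ≤ Subgroup.centralizer ((P : Subgroup G) : Set G)) :
    2 * p * Nat.card {c : ConjClasses G // ∀ x ∈ c.carrier, ∃ k : ℕ, orderOf x = p ^ k} ≤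
      (p + 1) * Nat.card (P : Subgroup G) := by
  classical
  have hnt : ∃ g : Subgroup.normalizer ((P : Subgroup G) : Set G), ∃ u : (P : Subgroup G), g • u ≠ u := by
    rw [SetLike.not_le_iff_exists] at h
    obtain ⟨g, hg, hgc⟩ := h
    rw [Subgroup.mem_centralizer_iff] at hgc
    push Not at hgc
    obtain ⟨u, hu, hne⟩ := hgc
    refine ⟨⟨g, hg⟩, ⟨u, hu⟩, ?_⟩
    intro h1
    have h2 : g * u * g⁻¹ = u := congrArg Subtype.val h1
    exact hne (mul_inv_eq_iff_eq_mul.1 h2).symm
  have hb := orbit_bound (H := Subgroup.normalizer ((P : Subgroup G) : Set G)) (P := (P : Subgroup G)) P.2 hnt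
  refine le_trans (Nat.mul_le_mul_left _ ?_) hb
  let φ : MulAction.orbitRel.Quotient (Subgroup.normalizer ((P : Subgroup G) : Set G)) (P : Subgroup G) →
      {c : ConjClasses G // ∀ x ∈ c.carrier, ∃ k : ℕ, orderOf x = p ^ k} :=
    Quotient.lift (fun u : (P : Subgroup G) => mkClass (fun n => ∃ k : ℕ, n = p ^ k) (u : G) (orderOf_mem_sylow P u))
      (by
        intro a b hab
        have hab' : a ∈ MulAction.orbit (Subgroup.normalizer ((P : Subgroup G) : Set G)) b :=
          MulAction.orbitRel_apply.1 hab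
        obtain ⟨g, rfl⟩ := hab'
        symm
        rw [mkClass_eq_iff]
        exact ⟨g, rfl⟩)
  apply Nat.card_le_card_of_surjective φ
  intro c
  obtain ⟨x, hx, rfl⟩ := exists_mkClass_eq (fun n => ∃ k : ℕ, n = p ^ k) c
  obtain ⟨g, hg⟩ := exists_conj_mem_sylow P x hx
  refine ⟨Quotient.mk _ ⟨g * x * g⁻¹, hg⟩, ?_⟩
  change mkClass (fun n => ∃ k : ℕ, n = p ^ k) (g * x * g⁻¹) _ = _
  symm
  rw [mkClass_eq_iff]
  exact ⟨g, rfl⟩

end

end Cfsg.Agent.Lib.Helper20
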