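import Mathlib
import Cfsg.Agent.Lib.Helper20.ClassCount
import Cfsg.Agent.Lib.Helper21.Basic

set_option autoImplicit false

universe u

namespace Cfsg.Agent.Lib.Helper20

/-- all prime divisors of `n` lie in `σ` -/
def piNum (σ : Finset ℕ) (n : ℕ) : Prop := ∀ r : ℕ, r.Prime → r ∣ n → r ∈ σ

/-- the classes all of whose elements have an order with property `Q` -/
abbrev KCl (Q : ℕ → Prop) (G : Type*) [Group G] := {c : ConjClasses G // ∀ y ∈ c.carrier, Q (orderOf y)}

/-- a representative -/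
noncomputable def rep {G : Type*} [Group G] (Q : ℕ → Prop) (c : KCl Q G) : G :=
  (exists_mkClass_eq Q c).choose

theorem rep_spec {G : Type*} [Group G] (Q : ℕ → Prop) (c : KCl Q G) : Q (orderOf (rep Q c)) :=
  (exists_mkClass_eq Q c).choose_spec.choose

theorem mkClass_rep {G : Type*} [Group G] (Q : ℕ → Prop) (c : KCl Q G) :
    mkClass Q (rep Q c) (rep_spec Q c) = c :=
  (exists_mkClass_eq Q c).choose_spec.choose_spec

theorem exists_conj_eq_rep {G : Type*} [Group G] (Q : ℕ → Prop) (x : G) (hx : Q (orderOf x)) :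
    ∃ g : G, g * x * g⁻¹ = rep Q (mkClass Q x hx) := by
  have h := mkClass_rep Q (mkClass Q x hx)
  rw [mkClass_eq_iff] at h
  obtain ⟨g, hg⟩ := h
  refine ⟨g⁻¹, ?_⟩
  generalize rep Q (mkClass Q x hx) = z at hg
  rw [← hg]; group

theorem card_KCl_insert_le {H : Type*} [Group H] [Finite H] (σ : Finset ℕ) (r : ℕ) [hr : Fact r.Prime] (M : ℕ)
    (hM : ∀ y : H, Nat.card (KCl (piNum σ) (Subgroup.centralizer ({y} : Set H))) ≤ M) :
    Nat.card (KCl (piNum (insert r σ)) H) ≤ Nat.card (KCl (fun n => ∃ k : ℕ, n = r ^ k) H) * M := by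
  classical
  set Qr : ℕ → Prop := fun n => ∃ k : ℕ, n = r ^ k with hQr
  let F : (Σ c : KCl Qr H, KCl (piNum σ) (Subgroup.centralizer ({rep Qr c} : Set H))) → ConjClasses H :=
    fun cd => ConjClasses.mk (rep Qr cd.1 * ((rep (piNum σ) cd.2 : Subgroup.centralizer ({rep Qr cd.1} : Set H)) : H))
  have hsub : {c : ConjClasses H | ∀ y ∈ c.carrier, piNum (insert r σ) (orderOf y)} ⊆ Set.range F := by
    intro C hC
    obtain ⟨x, rfl⟩ := ConjClasses.mk_surjective C
    have hx : piNum (insert r σ) (orderOf x) := hC x ConjClasses.mem_carrier_mk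
    obtain ⟨w, hw, y, hy, hxyw, hcop, k, hk⟩ := Cfsg.Agent.Lib.Helper21.exists_p_decomp r x (isOfFinOrder_of_finite x)
    have hyo : Qr (orderOf y) := by
      obtain ⟨j, -, hj⟩ := (Nat.dvd_prime_pow hr.out).1 (orderOf_dvd_of_pow_eq_one hk)
      exact ⟨j, hj⟩
    have hwo : piNum σ (orderOf w) := by
      intro s hs hsd
      have h1 : s ∣ orderOf x := hsd.trans (orderOf_dvd_of_mem_zpowers hw)
      rcases Finset.mem_insert.1 (hx s hs h1) with h2 | h2
      · exfalso
        subst h2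
        have h3 : s ∣ Nat.gcd (orderOf w) s := Nat.dvd_gcd hsd dvd_rfl
        rw [hcop.gcd_eq_one] at h3
        exact hs.one_lt.ne' (Nat.dvd_one.1 h3)
      · exact h2
    have hcomm : Commute y w := by
      obtain ⟨i, rfl⟩ := hy
      obtain ⟨j, rfl⟩ := hw
      exact (Commute.refl x).zpow_zpow i j
    obtain ⟨g, hg⟩ := exists_conj_eq_rep Qr y hyo
    set c := mkClass Qr y hyo with hc
    have hw' : g * w * g⁻¹ ∈ Subgroup.centralizer ({rep Qr c} : Set H) := by
      rw [Subgroup.mem_centralizer_singleton_iff, ← hg]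
      calc g * w * g⁻¹ * (g * y * g⁻¹) = g * (w * y) * g⁻¹ := by group
        _ = g * (y * w) * g⁻¹ := by rw [hcomm.eq]
        _ = _ := by group
    have hw'o : piNum σ (orderOf (⟨g * w * g⁻¹, hw'⟩ : Subgroup.centralizer ({rep Qr c} : Set H))) := by
      rw [← Subgroup.orderOf_coe]
      change piNum σ (orderOf (g * w * g⁻¹))
      rw [orderOf_conj_eq]; exact hwo
    obtain ⟨h, hh⟩ := exists_conj_eq_rep (piNum σ) (⟨g * w * g⁻¹, hw'⟩ : Subgroup.centralizer ({rep Qr c} : Set H)) hw'o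
    refine ⟨⟨c, mkClass (piNum σ) _ hw'o⟩, ?_⟩
    change ConjClasses.mk (rep Qr c * ((rep (piNum σ) (mkClass (piNum σ) _ hw'o) :
      Subgroup.centralizer ({rep Qr c} : Set H)) : H)) = ConjClasses.mk x
    rw [← hh, ConjClasses.mk_eq_mk_iff_isConj, isConj_comm, isConj_iff]
    refine ⟨(h : H) * g, ?_⟩
    have h1 : (h : H) * rep Qr c = rep Qr c * (h : H) := Subgroup.mem_centralizer_singleton_iff.1 h.2
    change (h : H) * g * x * ((h : H) * g)⁻¹ = rep Qr c * ((h : H) * (g * w * g⁻¹) * (h : H)⁻¹)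
    calc (h : H) * g * x * ((h : H) * g)⁻¹ = (h : H) * (g * y * g⁻¹) * (g * w * g⁻¹) * (h : H)⁻¹ := by
          rw [hxyw]; group
      _ = ((h : H) * rep Qr c) * (g * w * g⁻¹) * (h : H)⁻¹ := by rw [hg]
      _ = _ := by rw [h1]; group
  haveI : Fintype (KCl Qr H) := Fintype.ofFinite _
  calc Nat.card (KCl (piNum (insert r σ)) H)
      ≤ Nat.card (Set.range F) := Nat.card_mono (Set.toFinite _) hsub
    _ ≤ Nat.card (Σ c : KCl Qr H, KCl (piNum σ) (Subgroup.centralizer ({rep Qr c} : Set H))) :=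
        Finite.card_range_le F
    _ = ∑ c : KCl Qr H, Nat.card (KCl (piNum σ) (Subgroup.centralizer ({rep Qr c} : Set H))) := Nat.card_sigma
    _ ≤ ∑ _c : KCl Qr H, M := Finset.sum_le_sum fun c _ => hM _
    _ = Nat.card (KCl Qr H) * M := by
        rw [Finset.sum_const, Finset.card_univ, smul_eq_mul, Nat.card_eq_fintype_card]

/-- the number of classes of `r`-elements is at most the order of a Sylow `r`-subgroup -/
theorem card_KCl_prime_le {H : Type*} [Group H] [Finite H] (r : ℕ) [hr : Fact r.Prime] :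
    Nat.card (KCl (fun n => ∃ k : ℕ, n = r ^ k) H) ≤ r ^ (Nat.card H).factorization r := by
  obtain ⟨R⟩ : Nonempty (Sylow r H) := inferInstance
  rw [← R.card_eq_multiplicity]
  apply Nat.card_le_card_of_surjective (fun u : (R : Subgroup H) =>
    mkClass (fun n => ∃ k : ℕ, n = r ^ k) (u : H) (orderOf_mem_sylow R u))
  intro c
  obtain ⟨x, hx, rfl⟩ := exists_mkClass_eq (fun n => ∃ k : ℕ, n = r ^ k) c
  obtain ⟨g, hg⟩ := exists_conj_mem_sylow R x hx
  refine ⟨⟨g * x * g⁻¹, hg⟩, ?_⟩
  symm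
  rw [mkClass_eq_iff]
  exact ⟨g, rfl⟩

theorem piPart_le_of_dvd (σ : Finset ℕ) (hσ : ∀ s ∈ σ, s.Prime) {a b : ℕ} (hab : a ∣ b) (hb : b ≠ 0) :
    σ.prod (fun s => s ^ a.factorization s) ≤ σ.prod (fun s => s ^ b.factorization s) := by
  have ha : a ≠ 0 := by
    rintro rfl
    exact hb (Nat.eq_zero_of_zero_dvd hab)
  apply Finset.prod_le_prod'
  intro s hs
  exact Nat.pow_le_pow_right (hσ s hs).pos ((Nat.factorization_le_iff_dvd ha hb).2 hab s)

/-- the number of classes of `σ`-elements is at most the `σ`-part of the group order -/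
theorem card_KCl_le (σ : Finset ℕ) : (∀ s ∈ σ, s.Prime) → ∀ (H : Type u) [Group H] [Finite H],
    Nat.card (KCl (piNum σ) H) ≤ σ.prod (fun s => s ^ (Nat.card H).factorization s) := by
  classical
  induction σ using Finset.induction_on with
  | empty =>
    intro _ H _ _
    rw [Finset.prod_empty, Finite.card_le_one_iff_subsingleton]
    have key : ∀ c : KCl (piNum ∅) H, c.1 = ConjClasses.mk 1 := by
      intro c
      obtain ⟨x, hx, rfl⟩ := exists_mkClass_eq (piNum ∅) c
      have h1 : orderOf x = 1 := by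
        by_contra hne
        obtain ⟨q, hq, hqd⟩ := Nat.exists_prime_and_dvd hne
        exact absurd (hx q hq hqd) (Finset.notMem_empty q)
      rw [orderOf_eq_one_iff] at h1
      subst h1
      rfl
    exact ⟨fun a b => Subtype.ext ((key a).trans (key b).symm)⟩
  | insert r σ hr ih =>
    intro hσ H _ _
    haveI : Fact r.Prime := ⟨hσ r (Finset.mem_insert_self r σ)⟩
    have hσ' : ∀ s ∈ σ, s.Prime := fun s hs => hσ s (Finset.mem_insert_of_mem hs)
    have h1 := card_KCl_insert_le (H := H) σ r (σ.prod (fun s => s ^ (Nat.card H).factorization s))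
      (fun y => (ih hσ' _).trans (piPart_le_of_dvd σ hσ' (Subgroup.card_subgroup_dvd_card _) Nat.card_pos.ne'))
    rw [Finset.prod_insert hr]
    exact h1.trans (Nat.mul_le_mul_right _ (card_KCl_prime_le r))

/-- comparison of the number of classes of `π`-elements and of `r`-elements -/
theorem card_KCl_le_mul (π : Finset ℕ) (hπ : ∀ s ∈ π, s.Prime) (r : ℕ) (hr : r ∈ π)
    (H : Type u) [Group H] [Finite H] :
    Nat.card (KCl (piNum π) H) ≤ Nat.card (KCl (fun n => ∃ k : ℕ, n = r ^ k) H) *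
      (π.erase r).prod (fun s => s ^ (Nat.card H).factorization s) := by
  classical
  haveI : Fact r.Prime := ⟨hπ r hr⟩
  have hσ' : ∀ s ∈ π.erase r, s.Prime := fun s hs => hπ s (Finset.mem_of_mem_erase hs)
  have h1 := card_KCl_insert_le (H := H) (π.erase r) r ((π.erase r).prod (fun s => s ^ (Nat.card H).factorization s))
      (fun y => (card_KCl_le _ hσ' _).trans
        (piPart_le_of_dvd _ hσ' (Subgroup.card_subgroup_dvd_card _) Nat.card_pos.ne'))
  rwa [Finset.insert_erase hr] at h1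

end Cfsg.Agent.Lib.Helper20
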