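import Mathlib

set_option autoImplicit false

namespace Cfsg.Agent.Lib.Helper20

namespace IrrPrime

open Polynomial

/-- an irreducible linear operator `σ ≠ 1` with `σ ^ p = 1` on a finite `𝔽_q`-space: the space has `q ^ e` elements,
`e` the order of `q` modulo `p` -/
theorem card_of_irreducible {p q : ℕ} [hp : Fact p.Prime] [hq : Fact q.Prime]
    {V : Type*} [AddCommGroup V] [Finite V] [Module (ZMod q) V] (σ : Module.End (ZMod q) V)
    (hqp : q ≠ p) (hσp : σ ^ p = 1) (hσ1 : σ ≠ 1)
    (hirr : ∀ W : Submodule (ZMod q) V, (∀ w ∈ W, σ w ∈ W) → W = ⊥ ∨ W = ⊤) :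
    Nat.card V = q ^ orderOf (q : ZMod p) := by
  classical
  have hVnt : Nontrivial V := by
    by_contra h
    rw [not_nontrivial_iff_subsingleton] at h
    exact hσ1 (LinearMap.ext fun v => Subsingleton.elim _ _)
  obtain ⟨v₀, hv₀⟩ := exists_ne (0 : V)
  let φ : (ZMod q)[X] →ₐ[ZMod q] Module.End (ZMod q) V := aeval σ
  have hcomm : ∀ f : (ZMod q)[X], ∀ v, σ (φ f v) = φ f (σ v) := by
    intro f v
    have h1 : σ * φ f = φ f * σ := by
      have : φ X = σ := aeval_X σ
      rw [← this, ← map_mul, ← map_mul, mul_comm]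
    exact LinearMap.congr_fun h1 v
  -- kernels and ranges
  have hker : ∀ f : (ZMod q)[X], ∀ v, v ≠ 0 → φ f v = 0 → φ f = 0 := by
    intro f v hv hfv
    rcases hirr (LinearMap.ker (φ f)) (fun w hw => by
      rw [LinearMap.mem_ker] at hw ⊢
      rw [← hcomm, hw, map_zero]) with h | h
    · exfalso
      have : v ∈ LinearMap.ker (φ f) := hfv
      rw [h] at this
      exact hv this
    · exact LinearMap.ker_eq_top.mp h
  set I : Ideal (ZMod q)[X] := RingHom.ker (φ : (ZMod q)[X] →+* Module.End (ZMod q) V) with hI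
  have hmemI : ∀ f, f ∈ I ↔ φ f = 0 := fun f => RingHom.mem_ker
  have hIprime : I.IsPrime := by
    constructor
    · intro h
      have : (1 : (ZMod q)[X]) ∈ I := by rw [h]; trivial
      rw [hmemI, map_one] at this
      have h2 := LinearMap.congr_fun this v₀
      exact hv₀ h2
    · intro f g hfg
      rw [hmemI, map_mul] at hfg
      by_cases hg : φ g v₀ = 0
      · right
        rw [hmemI]
        exact hker g v₀ hv₀ hg
      · left
        rw [hmemI]
        apply hker f _ hg
        exact LinearMap.congr_fun hfg v₀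
  let K := (ZMod q)[X] ⧸ I
  have hdom : IsDomain K := Ideal.Quotient.isDomain I
  -- the bijection `K ≃ V`
  let ψ : K →+* Module.End (ZMod q) V := RingHom.kerLift (φ : (ZMod q)[X] →+* Module.End (ZMod q) V)
  have hψ : ∀ f : (ZMod q)[X], ψ (Ideal.Quotient.mk I f) = φ f := fun f => rfl
  have hψinj : Function.Injective ψ := RingHom.kerLift_injective _
  let ev : K → V := fun k => ψ k v₀
  have hevinj : Function.Injective ev := by
    intro k k' h
    obtain ⟨f, rfl⟩ := Ideal.Quotient.mk_surjective k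
    obtain ⟨g, rfl⟩ := Ideal.Quotient.mk_surjective k'
    have h1 : φ (f - g) v₀ = 0 := by
      rw [map_sub, LinearMap.sub_apply, sub_eq_zero]
      exact h
    have h2 := hker _ v₀ hv₀ h1
    rw [Ideal.Quotient.eq, hmemI]
    exact h2
  have hevsurj : Function.Surjective ev := by
    let W : Submodule (ZMod q) V :=
      { carrier := Set.range ev
        add_mem' := by
          rintro _ _ ⟨a, rfl⟩ ⟨b, rfl⟩
          exact ⟨a + b, by simp [ev]⟩
        zero_mem' := ⟨0, by simp [ev]⟩
        smul_mem' := by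
          rintro c _ ⟨a, rfl⟩
          obtain ⟨f, rfl⟩ := Ideal.Quotient.mk_surjective a
          refine ⟨Ideal.Quotient.mk I (C c * f), ?_⟩
          change φ (C c * f) v₀ = c • φ f v₀
          rw [map_mul]
          simp [φ, Algebra.algebraMap_eq_smul_one] }
    rcases hirr W (by
      rintro _ ⟨a, rfl⟩
      obtain ⟨f, rfl⟩ := Ideal.Quotient.mk_surjective a
      refine ⟨Ideal.Quotient.mk I (X * f), ?_⟩
      change φ (X * f) v₀ = σ (φ f v₀)
      rw [map_mul]
      simp [φ]) with h | h
    · exfalso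
      have : v₀ ∈ W := ⟨1, by simp [ev]⟩
      rw [h] at this
      exact hv₀ this
    · intro v
      have : v ∈ W := by rw [h]; trivial
      exact this
  have hcard : Nat.card K = Nat.card V := Nat.card_congr (Equiv.ofBijective ev ⟨hevinj, hevsurj⟩)
  have hKfin : Finite K := Finite.of_injective ev hevinj
  cases nonempty_fintype K
  letI : Field K := Fintype.fieldOfDomain K
  have hchar : CharP K q := charP_of_injective_algebraMap (algebraMap (ZMod q) K).injective q
  set t : K := Ideal.Quotient.mk I X with ht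
  have htp : t ^ p = 1 := by
    rw [ht, ← map_pow, ← map_one (Ideal.Quotient.mk I), Ideal.Quotient.eq, hmemI, map_sub, map_pow, map_one]
    simp [φ, hσp]
  have ht1 : t ≠ 1 := by
    intro h
    rw [ht, ← map_one (Ideal.Quotient.mk I), Ideal.Quotient.eq, hmemI, map_sub, map_one] at h
    apply hσ1
    have : φ X = σ := aeval_X σ
    rw [this] at h
    exact sub_eq_zero.mp h
  set e := orderOf (q : ZMod p) with he
  have hq0 : (q : ZMod p) ≠ 0 := by
    intro h
    rw [ZMod.natCast_eq_zero_iff] at h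
    exact hqp ((Nat.prime_dvd_prime_iff_eq hp.out hq.out).mp h).symm
  have hqe : (q : ZMod p) ^ e = 1 := pow_orderOf_eq_one _
  have hqpos : ∀ j : ℕ, 1 ≤ q ^ j := fun j => Nat.one_le_pow _ _ hq.out.pos
  have hdvd_iff : ∀ j : ℕ, p ∣ q ^ j - 1 ↔ (q : ZMod p) ^ j = 1 := by
    intro j
    rw [← ZMod.natCast_eq_zero_iff, Nat.cast_sub (hqpos j), sub_eq_zero]
    simp
  obtain ⟨m, hm⟩ := (hdvd_iff e).mpr hqe
  have hqe' : q ^ e = 1 + p * m := by have := hqpos e; omega
  have hte : t ^ q ^ e = t := by
    rw [hqe', pow_add, pow_one, pow_mul, htp, one_pow, mul_one]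
  have hall : ∀ k : K, k ^ q ^ e = k := by
    intro k
    obtain ⟨f, rfl⟩ := Ideal.Quotient.mk_surjective k
    induction f using Polynomial.induction_on' with
    | add f g hf hg => rw [map_add, add_pow_char_pow, hf, hg]
    | monomial n a =>
      rw [← C_mul_X_pow_eq_monomial, map_mul, map_pow, mul_pow, ← pow_mul, mul_comm n, pow_mul, ← ht, hte,
        ← map_pow, ← C_pow, ZMod.pow_card_pow]
  obtain ⟨n, -, hn⟩ := FiniteField.card K q
  have hcardU : Fintype.card Kˣ = q ^ (n : ℕ) - 1 := by rw [Fintype.card_units, hn]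
  -- `e ∣ n`
  have hen : e ∣ (n : ℕ) := by
    apply orderOf_dvd_of_pow_eq_one
    rw [← hdvd_iff, ← hcardU]
    have ht0 : t ≠ 0 := by
      intro h
      rw [h, zero_pow hp.out.ne_zero] at htp
      exact zero_ne_one htp
    have ho : orderOf (Units.mk0 t ht0) = p := by
      rw [← orderOf_units, Units.val_mk0]
      exact orderOf_eq_prime htp ht1
    rw [← ho]
    exact orderOf_dvd_card
  have hle1 : e ≤ (n : ℕ) := Nat.le_of_dvd n.pos hen
  -- `n ≤ e`
  have hle2 : q ^ (n : ℕ) ≤ q ^ e := by
    obtain ⟨g, hg⟩ := IsCyclic.exists_generator (α := Kˣ)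
    have ho : orderOf g = q ^ (n : ℕ) - 1 := by
      rw [orderOf_eq_card_of_forall_mem_zpowers hg, Nat.card_eq_fintype_card, hcardU]
    have h1 : g ^ (q ^ e - 1) = 1 := by
      have h2 : (g : K) ^ q ^ e = g := hall g
      ext
      rw [Units.val_pow_eq_pow_val, Units.val_one]
      have h3 : (g : K) ^ (q ^ e - 1) * g = 1 * g := by
        rw [← pow_succ, Nat.sub_add_cancel (hqpos e), h2, one_mul]
      exact mul_right_cancel₀ g.ne_zero h3
    have h4 : q ^ (n : ℕ) - 1 ∣ q ^ e - 1 := ho ▸ orderOf_dvd_of_pow_eq_one h1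
    have he0 : 0 < e := by
      rw [he, orderOf_pos_iff, isOfFinOrder_iff_pow_eq_one]
      exact ⟨p - 1, Nat.sub_pos_of_lt hp.out.one_lt, ZMod.pow_card_sub_one_eq_one hq0⟩
    have h5 : 0 < q ^ e - 1 := by
      have := Nat.one_lt_pow he0.ne' hq.out.one_lt
      omega
    have h6 := Nat.le_of_dvd h5 h4
    have := hqpos e
    have := hqpos n
    omega
  have hle3 : (n : ℕ) ≤ e := (Nat.pow_le_pow_iff_right hq.out.one_lt).mp hle2
  rw [← hcard, Nat.card_eq_fintype_card, hn, le_antisymm hle1 hle3]

/-- multiplicative version -/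
theorem card_of_irreducible_mul {p q : ℕ} [hp : Fact p.Prime] [hq : Fact q.Prime]
    {A : Type*} [CommGroup A] [Finite A] (hA : ∀ a : A, a ^ q = 1) (σ : A →* A)
    (hqp : q ≠ p) (hσp : ∀ a, σ^[p] a = a) (hσ1 : ∃ a, σ a ≠ a)
    (hirr : ∀ B : Subgroup A, (∀ b ∈ B, σ b ∈ B) → B = ⊥ ∨ B = ⊤) :
    Nat.card A = q ^ orderOf (q : ZMod p) := by
  letI : Module (ZMod q) (Additive A) := AddCommGroup.zmodModule (n := q) (fun x => hA x.toMul)
  let τ : Module.End (ZMod q) (Additive A) := (MonoidHom.toAdditive σ).toZModLinearMap q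
  have hτ : ∀ v : Additive A, τ v = Additive.ofMul (σ v.toMul) := fun v => rfl
  have hiter : ∀ (n : ℕ) (v : Additive A), τ^[n] v = Additive.ofMul (σ^[n] v.toMul) := by
    intro n
    induction n with
    | zero => intro v; rfl
    | succ n ih => intro v; rw [Function.iterate_succ_apply, Function.iterate_succ_apply, ih]; rfl
  have h := card_of_irreducible (p := p) τ hqp (by
    ext v
    rw [Module.End.pow_apply, hiter, hσp]
    rfl) (by
    obtain ⟨a, ha⟩ := hσ1
    intro h1
    exact ha (LinearMap.congr_fun h1 (Additive.ofMul a))) (by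
    intro W hW
    rcases hirr (AddSubgroup.toSubgroup' W.toAddSubgroup) (fun b hb => hW (Additive.ofMul b) hb) with h1 | h1
    · left
      rw [eq_bot_iff]
      intro w hw
      have : w.toMul ∈ AddSubgroup.toSubgroup' W.toAddSubgroup := hw
      rw [h1, Subgroup.mem_bot] at this
      exact this
    · right
      rw [eq_top_iff]
      intro w _
      have : w.toMul ∈ AddSubgroup.toSubgroup' W.toAddSubgroup := by rw [h1]; trivial
      exact this)
  exact h

end IrrPrime

end Cfsg.Agent.Lib.Helper20
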