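import Mathlib
import Cfsg.Agent.Lib.Helper1.CoprimeSylow

set_option autoImplicit false

namespace Cfsg.Agent.Lib.Helper20

variable {G : Type*} [Group G]

/-- `G = A B` with `A` normal, `A` and `B` soluble: `G` is soluble -/
theorem isSolvable_of_normal_sup (A B : Subgroup G) [A.Normal] (h : A ⊔ B = ⊤)
    (hA : Group.IsSolvable A) (hB : Group.IsSolvable B) : Group.IsSolvable G := by
  have hsurj : Function.Surjective ((QuotientGroup.mk' A).comp B.subtype) := by
    intro g
    obtain ⟨g, rfl⟩ := QuotientGroup.mk_surjective g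
    have hg : g ∈ A ⊔ B := h ▸ Subgroup.mem_top g
    have hg' : g ∈ ((A ⊔ B : Subgroup G) : Set G) := hg
    rw [Subgroup.normal_mul] at hg'
    obtain ⟨a, ha, b, hb, rfl⟩ := hg'
    refine ⟨⟨b, hb⟩, ?_⟩
    change (QuotientGroup.mk b : G ⧸ A) = QuotientGroup.mk (a * b)
    rw [QuotientGroup.mk_mul, (QuotientGroup.eq_one_iff a).2 ha, one_mul]
  haveI : Group.IsSolvable (G ⧸ A) := Group.isSolvable_of_surjective hsurj
  exact Group.isSolvable_of_ker_le_range A.subtype (QuotientGroup.mk' A) (by
    rw [QuotientGroup.ker_mk', Subgroup.range_subtype])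

theorem isSolvable_of_isPGroup [Finite G] {p : ℕ} [Fact p.Prime] (h : IsPGroup p G) :
    Group.IsSolvable G := by
  haveI := h.isNilpotent
  infer_instance

/-- a finite group with an abelian maximal Sylow subgroup is soluble -/
theorem isSolvable_of_abelian_maximal_sylow [Finite G] {p : ℕ} [hp : Fact p.Prime] (P : Sylow p G)
    (hmax : IsCoatom (P : Subgroup G)) (hab : ∀ a ∈ P, ∀ b ∈ P, a * b = b * a) :
    Group.IsSolvable G := by
  classical
  have hPs : Group.IsSolvable (P : Subgroup G) := isSolvable_of_isPGroup P.2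
  have key : ∀ (q : ℕ) [Fact q.Prime] (R : Subgroup G), q ≠ p → IsPGroup q R → R ≠ ⊥ →
      (P : Subgroup G) ⊔ R = ⊤ := by
    intro q _ R hqp hR hRne
    by_contra hcon
    have h1 : (P : Subgroup G) ⊔ R = P := (hmax.le_iff.1 le_sup_left).resolve_left hcon
    have h2 : R ≤ P := by rw [← h1]; exact le_sup_right
    apply hRne
    have h3 : IsPGroup p R := P.2.to_le h2
    rw [← Subgroup.card_eq_one]
    obtain ⟨a, ha⟩ := hR.exists_card_eq
    obtain ⟨b, hb⟩ := h3.exists_card_eq
    have h4 : Nat.Coprime (q ^ a) (p ^ b) :=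
      Nat.Coprime.pow _ _ ((Nat.coprime_primes Fact.out hp.out).2 hqp)
    rw [← ha, ← hb] at h4
    exact (Nat.coprime_self _).1 h4
  by_cases hn : (P : Subgroup G).Normal
  · -- quotient generated by a Sylow subgroup for another prime
    have hidx : (P : Subgroup G).index ≠ 1 := by
      rw [Ne, Subgroup.index_eq_one]; exact hmax.1
    set q := (P : Subgroup G).index.minFac with hq
    haveI hqp : Fact q.Prime := ⟨Nat.minFac_prime hidx⟩
    have hqd : q ∣ (P : Subgroup G).index := Nat.minFac_dvd _
    have hne : q ≠ p := by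
      intro h
      rw [h] at hqd
      exact P.not_dvd_index hqd
    obtain ⟨Q⟩ : Nonempty (Sylow q G) := inferInstance
    have hQne : (Q : Subgroup G) ≠ ⊥ :=
      Q.ne_bot_of_dvd_card (hqd.trans (Subgroup.index_dvd_card _))
    exact isSolvable_of_normal_sup (P : Subgroup G) Q (key q Q hne Q.2 hQne) hPs
      (isSolvable_of_isPGroup Q.2)
  · have hnorm : Subgroup.normalizer ((P : Subgroup G) : Set G) = P := by
      refine (hmax.le_iff.1 Subgroup.le_normalizer).resolve_left ?_
      intro h
      exact hn (Subgroup.normalizer_eq_top_iff.1 h)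
    have hP : Subgroup.normalizer ((P : Subgroup G) : Set G) ≤ Subgroup.centralizer (P : Set G) := by
      rw [hnorm]
      intro a ha
      rw [Subgroup.mem_centralizer_iff]
      intro b hb
      exact hab b hb a ha
    set K := (MonoidHom.transferSylow P hP).ker with hK
    have hcompl : Subgroup.IsComplement' K P := MonoidHom.ker_transferSylow_isComplement' P hP
    have hpK : ¬ p ∣ Nat.card K := MonoidHom.not_dvd_card_ker_transferSylow P hP
    have hKne : Nat.card K ≠ 1 := by
      intro h
      have h1 := hcompl.card_mul_card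
      rw [h, one_mul] at h1
      exact hmax.1 (Subgroup.eq_top_of_card_eq _ h1)
    set q := (Nat.card K).minFac with hq
    haveI hqp : Fact q.Prime := ⟨Nat.minFac_prime hKne⟩
    have hqd : q ∣ Nat.card K := Nat.minFac_dvd _
    have hne : q ≠ p := by
      intro h
      rw [h] at hqd
      exact hpK hqd
    have hcop : (Nat.card (P : Subgroup G)).Coprime (Nat.card K) := by
      obtain ⟨a, ha⟩ := P.2.exists_card_eq
      rw [ha]
      exact Nat.Coprime.pow_left _ ((hp.out.coprime_iff_not_dvd).2 hpK)
    obtain ⟨R, hR⟩ := Cfsg.Agent.Lib.Helper1.coprime_exists_invariant_sylow (P : Subgroup G) K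
      (by rw [Subgroup.normalizer_eq_top]; exact le_top) hcop (Or.inl hPs) q
    set R' := Cfsg.Agent.Lib.Helper1.sylImg R with hR'
    have hR'p : IsPGroup q R' := Cfsg.Agent.Lib.Helper1.sylImg_isPGroup R
    have hR'ne : R' ≠ ⊥ := by
      intro h
      have h1 : (R : Subgroup K) = ⊥ := by
        rw [hR', Subgroup.map_eq_bot_iff_of_injective _ K.subtype_injective] at h
        exact h
      exact R.ne_bot_of_dvd_card hqd h1
    have htop := key q R' hne hR'p hR'ne
    haveI hR'n : R'.Normal := by
      rw [← Subgroup.normalizer_eq_top_iff, ← top_le_iff, ← htop]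
      exact sup_le hR Subgroup.le_normalizer
    exact isSolvable_of_normal_sup R' P (by rw [sup_comm]; exact htop)
      (isSolvable_of_isPGroup hR'p) hPs

end Cfsg.Agent.Lib.Helper20
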