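import Mathlib
import Cfsg.Prelude.Def_Local
import Cfsg.Agent.Lib.Helper1.Hall
import Cfsg.Agent.Lib.Helper1.Nilp

set_option autoImplicit false
open Pointwise

namespace Cfsg.Agent.Lib.Helper20

open Subgroup Cfsg.Agent.Lib.Helper1

universe u

variable {G : Type u} [Group G]

/-- a nontrivial `p`-soluble group has a nontrivial normal subgroup which is a `p`-group or a `p'`-group -/
theorem IsPSolvable.exists_normal [Finite G] [Nontrivial G] {p : ℕ} [Fact p.Prime] (hG : Cfsg.IsPSolvable p G) :
    ∃ M : Subgroup G, M.Normal ∧ M ≠ ⊥ ∧ (IsPGroup p M ∨ (Nat.card M).Coprime p) := by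
  obtain ⟨n, H, h0, hlast, -, hnorm, hstep⟩ := hG
  by_contra hcon
  push Not at hcon
  have key : ∀ i : Fin (n + 1), H i = ⊥ := by
    intro i
    induction i using Fin.induction with
    | zero => exact h0
    | succ i ih =>
      by_contra hne
      have h1 := hcon (H i.succ) (hnorm _) hne
      rcases hstep i with ⟨m, hm⟩ | hm
      · rw [ih, relIndex_bot_left] at hm
        exact h1.1 (IsPGroup.of_card hm)
      · rw [ih, relIndex_bot_left] at hm
        exact h1.2 hm
  have := key (Fin.last n)
  rw [hlast] at this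
  exact top_ne_bot this

/-- quotients of `p`-soluble groups are `p`-soluble -/
theorem IsPSolvable.quotient {p : ℕ} [Fact p.Prime] (hG : Cfsg.IsPSolvable p G) (M : Subgroup G) [M.Normal] :
    Cfsg.IsPSolvable p (G ⧸ M) := by
  obtain ⟨n, H, h0, hlast, hmono, hnorm, hstep⟩ := hG
  have hs := QuotientGroup.mk'_surjective M
  refine ⟨n, fun i => (H i).map (QuotientGroup.mk' M), ?_, ?_, ?_, ?_, ?_⟩
  · simp only [h0, Subgroup.map_bot]
  · simp only [hlast]
    rw [← MonoidHom.range_eq_map, MonoidHom.range_eq_top]; exact hs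
  · intro i j hij
    exact map_mono (hmono hij)
  · intro i
    exact (hnorm i).map _ hs
  · intro i
    have hle : H i.castSucc ≤ H i.succ := hmono (Fin.castSucc_le_succ i)
    have hdvd : ((H i.castSucc).map (QuotientGroup.mk' M)).relIndex ((H i.succ).map (QuotientGroup.mk' M)) ∣
        (H i.castSucc).relIndex (H i.succ) := by
      rw [relIndex_map_map, QuotientGroup.ker_mk']
      haveI := hnorm i.castSucc
      haveI : (H i.castSucc ⊔ M).Normal := inferInstance
      have h1 : H i.succ ⊔ M = (H i.castSucc ⊔ M) ⊔ H i.succ := by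
        apply le_antisymm
        · exact sup_le le_sup_right (le_sup_right.trans le_sup_left)
        · exact sup_le (sup_le (hle.trans le_sup_left) le_sup_right) le_sup_left
      rw [h1, relIndex_sup_left]
      exact relIndex_dvd_of_le_left _ le_sup_left
    rcases hstep i with ⟨m, hm⟩ | hm
    · left
      rw [hm] at hdvd
      obtain ⟨j, -, hj⟩ := (Nat.dvd_prime_pow Fact.out).1 hdvd
      exact ⟨j, hj⟩
    · right
      exact Nat.Coprime.of_dvd_left hdvd hm

/-- a normal `p'`-subgroup lies in every subgroup of `p`-power index -/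
theorem le_of_normal_coprime_of_index_pow [Finite G] {p : ℕ} [Fact p.Prime] {M H : Subgroup G} [M.Normal]
    (hM : (Nat.card M).Coprime p) {n : ℕ} (hH : H.index = p ^ n) : M ≤ H := by
  have h1 : H.relIndex M ∣ Nat.card M := by
    rw [← inf_relIndex_right]
    have := relIndex_mul_relIndex ⊥ (H ⊓ M) M bot_le inf_le_right
    rw [relIndex_bot_left, relIndex_bot_left] at this
    exact Dvd.intro_left _ this
  have h2 : H.relIndex M ∣ p ^ n := by
    have h3 : H.relIndex M = H.relIndex (H ⊔ M) := by
      have h4 := relIndex_mul_relIndex ⊥ H (H ⊔ M) bot_le le_sup_left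
      have h5 := relIndex_mul_relIndex ⊥ M (H ⊔ M) bot_le le_sup_right
      have h6 := relIndex_mul_relIndex ⊥ (H ⊓ M) M bot_le inf_le_right
      have h7 := relIndex_mul_relIndex ⊥ (H ⊓ M) H bot_le inf_le_left
      rw [inf_relIndex_right] at h6
      rw [inf_relIndex_left] at h7
      rw [relIndex_sup_right] at h5
      have hc : 0 < (⊥ : Subgroup G).relIndex (H ⊓ M) := by
        rw [relIndex_bot_left]; exact Nat.card_pos
      have hc2 : 0 < M.relIndex H := Nat.pos_of_ne_zero (by
        unfold relIndex; exact index_ne_zero_of_finite)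
      have h8 : (⊥ : Subgroup G).relIndex (H ⊓ M) * M.relIndex H * H.relIndex M =
          (⊥ : Subgroup G).relIndex (H ⊓ M) * M.relIndex H * H.relIndex (H ⊔ M) := by
        calc (⊥ : Subgroup G).relIndex (H ⊓ M) * M.relIndex H * H.relIndex M
            = ((⊥ : Subgroup G).relIndex (H ⊓ M) * H.relIndex M) * M.relIndex H := by ring
          _ = (⊥ : Subgroup G).relIndex (H ⊔ M) := by rw [h6, h5]
          _ = _ := by rw [h7, h4]
      exact Nat.eq_of_mul_eq_mul_left (Nat.mul_pos hc hc2) h8
    rw [h3, ← hH]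
    exact Dvd.intro _ (relIndex_mul_index le_sup_left)
  have h3 : H.relIndex M = 1 :=
    Nat.eq_one_of_dvd_coprimes (Nat.Coprime.pow_right n hM) h1 h2
  exact relIndex_eq_one.1 h3

/-- The statement of the Hall theorems for `p`-complements. -/
def HallPP (p : ℕ) (G : Type u) [Group G] : Prop :=
  ∀ m n : ℕ, Nat.card G = m * n → m.Coprime p → (∃ k, n = p ^ k) →
    (∃ H : Subgroup G, Nat.card H = m) ∧
    (∀ H K : Subgroup G, Nat.card H = m → (Nat.card K).Coprime p →
      ∃ g : G, K ≤ MulAut.conj g • H)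

theorem hallPP_all (p : ℕ) [Fact p.Prime] : ∀ (N : ℕ) (G : Type u) [Group G] [Finite G], Cfsg.IsPSolvable p G →
    Nat.card G = N → HallPP p G := by
  intro N
  induction N using Nat.strong_induction_on with
  | _ N ih =>
  intro G _ _ hPS hN m n hmn hmp hnp
  have hp : p.Prime := Fact.out
  obtain ⟨k, rfl⟩ := hnp
  have hcop : m.Coprime (p ^ k) := Nat.Coprime.pow_right k hmp
  rcases subsingleton_or_nontrivial G with hsub | hnt
  · have h1 : Nat.card G = 1 := Nat.card_of_subsingleton 1
    have hm : m = 1 := Nat.eq_one_of_mul_eq_one_right (hmn.symm.trans h1)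
    refine ⟨⟨⊥, by rw [hm]; simp⟩, fun H K _ _ => ⟨1, fun x _ => ?_⟩⟩
    rw [Subsingleton.elim x 1]; exact one_mem _
  obtain ⟨M, hMn, hMne, hMcase⟩ := IsPSolvable.exists_normal hPS
  have hMG : Nat.card M * Nat.card (G ⧸ M) = Nat.card G := by
    rw [← index_eq_card]; exact M.card_mul_index
  have hMpos : 0 < Nat.card M := Nat.card_pos
  have hQlt : Nat.card (G ⧸ M) < N := by
    rw [← hN, ← hMG]
    have h1 : 1 < Nat.card M := (one_lt_card_iff_ne_bot M).mpr hMne
    have h2 : 0 < Nat.card (G ⧸ M) := Nat.card_pos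
    nlinarith
  have IH := ih _ hQlt (G ⧸ M) (IsPSolvable.quotient hPS M) rfl
  have hMdvd : Nat.card M ∣ m * p ^ k := hmn ▸ card_subgroup_dvd_card M
  have hlift : ∀ (H K : Subgroup G) (g' : G ⧸ M),
      K.map (QuotientGroup.mk' M) ≤ MulAut.conj g' • H.map (QuotientGroup.mk' M) →
      ∃ g : G, K ≤ MulAut.conj g • H ⊔ M := by
    intro H K g' h
    obtain ⟨g, rfl⟩ := QuotientGroup.mk'_surjective M g'
    rw [← map_conj_smul, Subgroup.map_le_map_iff, QuotientGroup.ker_mk'] at h
    exact ⟨g, h⟩
  rcases hMcase with hMpg | hMp'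
  · -- `M` is a `p`-group
    obtain ⟨j, hj⟩ := IsPGroup.iff_card.mp hMpg
    have hMn' : Nat.card M ∣ p ^ k := by
      apply Nat.Coprime.dvd_of_dvd_mul_left _ hMdvd
      rw [hj]; exact (Nat.Coprime.pow_right j hmp).symm
    obtain ⟨n', hn'⟩ := hMn'
    have hn'p : ∃ k', n' = p ^ k' := by
      obtain ⟨k', -, hk'⟩ := (Nat.dvd_prime_pow hp).1 (Dvd.intro_left _ hn'.symm)
      exact ⟨k', hk'⟩
    have hQ : Nat.card (G ⧸ M) = m * n' := by
      apply Nat.eq_of_mul_eq_mul_left hMpos
      rw [hMG, hmn, hn']; ring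
    have hcopM : (Nat.card M).Coprime m := by
      rw [hj]; exact (Nat.Coprime.pow_right j hmp).symm
    obtain ⟨⟨L', hL'⟩, hD⟩ := IH m n' hQ hmp hn'p
    constructor
    · set L := L'.comap (QuotientGroup.mk' M) with hL
      have hLcard : Nat.card L = Nat.card M * m := by rw [hL, card_comap_mk', hL']
      have hML : M ≤ L := by
        conv_lhs => rw [← QuotientGroup.ker_mk' M]
        exact MonoidHom.ker_le_comap _ _
      have hidx : (M.subgroupOf L).index = m := by
        have h2 := (M.subgroupOf L).card_mul_index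
        rw [card_subgroupOf_of_le hML, hLcard] at h2
        exact Nat.eq_of_mul_eq_mul_left hMpos h2
      obtain ⟨H₀, hH₀⟩ := exists_right_complement'_of_coprime (N := M.subgroupOf L)
        (by rw [hidx, card_subgroupOf_of_le hML]; exact hcopM)
      refine ⟨H₀.map L.subtype, ?_⟩
      rw [card_map_of_injective L.subtype_injective, ← hidx]
      exact hH₀.symm.index_eq_card.symm
    · intro H K hH hK
      have hdMH : ∀ H : Subgroup G, Nat.card H = m → Disjoint M H := fun H hH =>
        disjoint_of_coprime_card (hH ▸ hcopM)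
      have hHbar : Nat.card (H.map (QuotientGroup.mk' M)) = m := by
        have h1 := relIndex_ker (K := H) (QuotientGroup.mk' M)
        rw [QuotientGroup.ker_mk', ← inf_relIndex_right, (hdMH H hH).eq_bot, relIndex_bot_left] at h1
        rw [← h1, hH]
      obtain ⟨g', hg'⟩ := hD _ (K.map (QuotientGroup.mk' M)) hHbar
        (Nat.Coprime.of_dvd_left (card_map_dvd _ _) hK)
      obtain ⟨g, hg⟩ := hlift H K g' hg'
      set H₁ := MulAut.conj g • H with hH₁
      have hH₁card : Nat.card H₁ = m := (card_conj_smul g H).trans hH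
      have hcopMK : (Nat.card M).Coprime (Nat.card K) := by
        rw [hj]; exact (Nat.Coprime.pow_right j hK).symm
      obtain ⟨x, -, hx⟩ := szi M K (H₁ ⊓ (M ⊔ K)) le_normalizer_of_normal
        (by
          apply le_antisymm
          · refine sup_le le_sup_left ?_
            intro y hy
            obtain ⟨h, hh, z, hz, rfl⟩ := mem_sup_of_normal_right.mp (hg hy)
            have h1 : h ∈ M ⊔ K := by
              have : h = h * z * z⁻¹ := by group
              rw [this]
              exact mul_mem (mem_sup_right hy) (mem_sup_left (M.inv_mem hz))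
            exact mul_mem (mem_sup_right ⟨hh, h1⟩) (mem_sup_left hz)
          · exact sup_le le_sup_left inf_le_right)
        (disjoint_of_coprime_card hcopMK) ((hdMH H₁ hH₁card).mono_right inf_le_left)
        hcopMK (Or.inl (solvable_of_isPGroup hMpg))
      refine ⟨x⁻¹ * g, ?_⟩
      rw [conj_mul_smul, le_conj_smul_iff, inv_inv, hx]
      exact inf_le_left
  · -- `M` is a `p'`-group
    have hMm : Nat.card M ∣ m := by
      apply Nat.Coprime.dvd_of_dvd_mul_right _ hMdvd
      exact Nat.Coprime.pow_right k hMp'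
    obtain ⟨m', hm'⟩ := hMm
    have hQ : Nat.card (G ⧸ M) = m' * p ^ k := by
      apply Nat.eq_of_mul_eq_mul_left hMpos
      rw [hMG, hmn, hm', mul_assoc]
    have hcop' : m'.Coprime p := Nat.Coprime.of_dvd_left (Dvd.intro_left _ hm'.symm) hmp
    obtain ⟨⟨H', hH'⟩, hD⟩ := IH m' (p ^ k) hQ hcop' ⟨k, rfl⟩
    refine ⟨⟨H'.comap (QuotientGroup.mk' M), by rw [card_comap_mk', hH', hm']⟩, ?_⟩
    intro H K hH hK
    have hidx : ∀ H : Subgroup G, Nat.card H = m → H.index = p ^ k := by
      intro H hH
      have h1 := H.card_mul_index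
      rw [hH, hmn] at h1
      have hmpos : 0 < m := hH ▸ Nat.card_pos
      exact Nat.eq_of_mul_eq_mul_left hmpos h1
    have hMH : M ≤ H := le_of_normal_coprime_of_index_pow hMp' (hidx H hH)
    have hHbar : Nat.card (H.map (QuotientGroup.mk' M)) = m' := by
      have h1 := relIndex_ker (K := H) (QuotientGroup.mk' M)
      rw [QuotientGroup.ker_mk'] at h1
      have h2 := (M.subgroupOf H).card_mul_index
      rw [card_subgroupOf_of_le hMH, hH, hm'] at h2
      rw [← h1]
      exact Nat.eq_of_mul_eq_mul_left hMpos h2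
    obtain ⟨g', hg'⟩ := hD _ (K.map (QuotientGroup.mk' M)) hHbar
      (Nat.Coprime.of_dvd_left (card_map_dvd _ _) hK)
    obtain ⟨g, hg⟩ := hlift H K g' hg'
    refine ⟨g, hg.trans (sup_le le_rfl ?_)⟩
    exact le_of_normal_coprime_of_index_pow hMp' (hidx _ ((card_conj_smul g H).trans hH))

/-- decomposition of the order into `p'`-part and `p`-part -/
theorem exists_card_eq_mul_pow [Finite G] (p : ℕ) [Fact p.Prime] :
    ∃ m k : ℕ, Nat.card G = m * p ^ k ∧ m.Coprime p := by
  obtain ⟨k, m, hm, h⟩ := Nat.exists_eq_pow_mul_and_not_dvd (n := Nat.card G) Nat.card_pos.ne' p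
    (Fact.out : p.Prime).one_lt.ne'
  exact ⟨m, k, by rw [h, mul_comm], ((Nat.Prime.coprime_iff_not_dvd Fact.out).2 hm).symm⟩

/-- a subgroup is a `p`-complement iff its order is the `p'`-part of the order of the group -/
theorem card_eq_of_isPComplement [Finite G] {p : ℕ} [Fact p.Prime] {m k : ℕ} (hG : Nat.card G = m * p ^ k)
    (hm : m.Coprime p) {H : Subgroup G} (h1 : (Nat.card H).Coprime p) {n : ℕ} (h2 : H.index = p ^ n) :
    Nat.card H = m := by
  have h3 := H.card_mul_index
  rw [h2, hG] at h3
  apply Nat.dvd_antisymm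
  · exact Nat.Coprime.dvd_of_dvd_mul_right (Nat.Coprime.pow_right k h1) (Dvd.intro _ h3)
  · exact Nat.Coprime.dvd_of_dvd_mul_right (Nat.Coprime.pow_right n hm) (Dvd.intro _ h3.symm)

theorem index_eq_of_card_eq [Finite G] {p : ℕ} {m k : ℕ} (hG : Nat.card G = m * p ^ k)
    {H : Subgroup G} (h1 : Nat.card H = m) : H.index = p ^ k := by
  have h3 := H.card_mul_index
  rw [h1, hG] at h3
  exact Nat.eq_of_mul_eq_mul_left (h1 ▸ Nat.card_pos) h3

end Cfsg.Agent.Lib.Helper20
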