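import Mathlib

set_option autoImplicit false

namespace Cfsg.Agent.Lib.Helper20.Zsig

open Polynomial Finset

/-- the value `|Φ_m(q)|` as a natural number -/
noncomputable def F (m q : ℕ) : ℕ := ((cyclotomic m ℤ).eval (q : ℤ)).natAbs

theorem F_cast_int {m q : ℕ} (hq : 1 < q) : ((F m q : ℕ) : ℤ) = (cyclotomic m ℤ).eval (q : ℤ) := by
  have h : 0 < (cyclotomic m ℤ).eval (q : ℤ) := cyclotomic_pos' m (by exact_mod_cast hq)
  unfold F
  rw [Int.natCast_natAbs, abs_of_pos h]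

theorem F_cast_real {m q : ℕ} (hq : 1 < q) : ((F m q : ℕ) : ℝ) = (cyclotomic m ℝ).eval (q : ℝ) := by
  have h1 : ((F m q : ℕ) : ℝ) = (((F m q : ℕ) : ℤ) : ℝ) := by push_cast; rfl
  rw [h1, F_cast_int hq]
  have := cyclotomic.eval_apply (q : ℤ) m (algebraMap ℤ ℝ)
  simpa using this.symm

theorem F_lower {m q : ℕ} (hq : 1 < q) : (q - 1) ^ Nat.totient m ≤ F m q := by
  have h := sub_one_pow_totient_le_cyclotomic_eval (q := (q : ℝ)) (by exact_mod_cast hq) m
  rw [← F_cast_real hq] at h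
  have h2 : ((q : ℝ) - 1) = ((q - 1 : ℕ) : ℝ) := by
    rw [Nat.cast_sub hq.le]; simp
  rw [h2] at h
  exact_mod_cast h

theorem F_upper {m q : ℕ} (hq : 1 < q) : F m q ≤ (q + 1) ^ Nat.totient m := by
  have h := cyclotomic_eval_le_add_one_pow_totient (q := (q : ℝ)) (by exact_mod_cast hq) m
  rw [← F_cast_real hq] at h
  exact_mod_cast h

theorem F_lower_strict {m q : ℕ} (hm : 1 < m) (hq : 1 < q) : (q - 1) ^ Nat.totient m < F m q :=
  sub_one_pow_totient_lt_natAbs_cyclotomic_eval hm hq.ne'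

theorem F_gt {m q : ℕ} (hm : 1 < m) (hq : 1 < q) : q - 1 < F m q :=
  sub_one_lt_natAbs_cyclotomic_eval hm hq.ne'

theorem F_expand_of_dvd {r m a : ℕ} (hr : r.Prime) (h : r ∣ m) : F m (a ^ r) = F (m * r) a := by
  unfold F
  rw [← cyclotomic_expand_eq_cyclotomic hr h ℤ, expand_eval]
  push_cast
  rfl

theorem F_expand_of_not_dvd {r m a : ℕ} (hr : r.Prime) (h : ¬ r ∣ m) :
    F m (a ^ r) = F (m * r) a * F m a := by
  unfold F
  rw [← Int.natAbs_mul, ← eval_mul, ← cyclotomic_expand_eq_cyclotomic_mul hr h ℤ, expand_eval]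
  push_cast
  rfl

theorem F_dvd_pow_sub_one {n a : ℕ} (ha : 1 < a) : F n a ∣ a ^ n - 1 := by
  have h1 : (cyclotomic n ℤ).eval (a : ℤ) ∣ (X ^ n - 1 : ℤ[X]).eval (a : ℤ) :=
    eval_dvd (cyclotomic.dvd_X_pow_sub_one n ℤ)
  rw [← F_cast_int ha] at h1
  have h2 : (X ^ n - 1 : ℤ[X]).eval (a : ℤ) = ((a ^ n - 1 : ℕ) : ℤ) := by
    rw [Nat.cast_sub (Nat.one_le_pow _ _ (by omega))]
    simp
  rw [h2] at h1
  exact_mod_cast h1

theorem geom_nat (b q : ℕ) (hb : 1 ≤ b) : (∑ i ∈ range q, b ^ i) * (b - 1) = b ^ q - 1 := by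
  obtain ⟨x, rfl⟩ : ∃ x, b = x + 1 := ⟨b - 1, by omega⟩
  have := geom_sum_mul_add x q
  simp only [Nat.add_sub_cancel]
  omega

theorem F_dvd_geom {n a q : ℕ} (ha : 1 < a) (hn : 0 < n) (hq : 1 < q) (hqn : q ∣ n) :
    F n a ∣ ∑ i ∈ range q, (a ^ (n / q)) ^ i := by
  have hd : n / q ∈ n.properDivisors := by
    rw [Nat.mem_properDivisors]
    exact ⟨Nat.div_dvd_of_dvd hqn, Nat.div_lt_self hn hq⟩
  have h1 := eval_dvd (x := (a : ℤ)) (X_pow_sub_one_mul_cyclotomic_dvd_X_pow_sub_one_of_dvd ℤ hd)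
  simp only [eval_mul, eval_sub, eval_pow, eval_X, eval_one] at h1
  rw [← F_cast_int ha] at h1
  have h2 : (a : ℤ) ^ n - 1 = ((a : ℤ) ^ (n / q) - 1) * ∑ i ∈ range q, ((a : ℤ) ^ (n / q)) ^ i := by
    rw [mul_comm, geom_sum_mul, ← pow_mul, Nat.div_mul_cancel hqn]
  rw [h2] at h1
  have h3 : (a : ℤ) ^ (n / q) - 1 ≠ 0 := by
    have h4 : 0 < n / q := Nat.div_pos (Nat.le_of_dvd hn hqn) (by omega)
    have h5 : (1 : ℤ) < (a : ℤ) ^ (n / q) := one_lt_pow₀ (by exact_mod_cast ha) h4.ne'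
    omega
  have h6 := (mul_dvd_mul_iff_left h3).mp h1
  exact_mod_cast h6

theorem geom_modEq {r b : ℕ} (hb : 1 ≤ b) (h : r ∣ b - 1) (q : ℕ) :
    (∑ i ∈ range q, b ^ i) ≡ q [MOD r] := by
  have hb1 : b ≡ 1 [MOD r] := ((Nat.modEq_iff_dvd' hb).mpr h).symm
  induction q with
  | zero => simp [Nat.ModEq]
  | succ q ih =>
    rw [sum_range_succ]
    have := (hb1.pow q)
    rw [one_pow] at this
    exact ih.add this

/-- key lemma -/
theorem eq_of_dvd {n a r q : ℕ} (ha : 1 < a) (hn : 0 < n) (hr : r.Prime) (hq : q.Prime)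
    (hrF : r ∣ F n a) (hqn : q ∣ n) (h : r ∣ a ^ (n / q) - 1) : r = q := by
  have h1 := hrF.trans (F_dvd_geom ha hn hq.one_lt hqn)
  have h2 := geom_modEq (Nat.one_le_pow _ _ (by omega)) h q
  have h3 : r ∣ q := (Nat.modEq_zero_iff_dvd.mp (h2.symm.trans (Nat.modEq_zero_iff_dvd.mpr h1)))
  exact (Nat.prime_dvd_prime_iff_eq hr hq).mp h3

theorem pow_sub_one_dvd {a g m : ℕ} (h : g ∣ m) : a ^ g - 1 ∣ a ^ m - 1 := by
  obtain ⟨c, rfl⟩ := h
  have := Nat.sub_dvd_pow_sub_pow (a ^ g) 1 c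
  rwa [one_pow, ← pow_mul] at this

theorem nonprimitive {n a r k : ℕ} (ha : 1 < a) (hr : r.Prime) (hrF : r ∣ F n a)
    (hk : 0 < k) (hkn : k < n) (hrk : r ∣ a ^ k - 1) : r ∣ n ∧ r ∣ a ^ (n / r) - 1 := by
  have hn : 0 < n := by omega
  have h1 : r ∣ a ^ n - 1 := hrF.trans (F_dvd_pow_sub_one ha)
  have h2 : r ∣ a ^ (Nat.gcd k n) - 1 := by
    rw [← Nat.pow_sub_one_gcd_pow_sub_one]
    exact Nat.dvd_gcd hrk h1
  set g := Nat.gcd k n with hg
  have hgn : g ∣ n := Nat.gcd_dvd_right k n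
  have hgk : g ≤ k := Nat.le_of_dvd hk (Nat.gcd_dvd_left k n)
  have hg0 : 0 < g := Nat.gcd_pos_of_pos_left n hk
  obtain ⟨c, hc⟩ := hgn
  have hc1 : c ≠ 1 := by
    rintro rfl
    omega
  set q := Nat.minFac c with hq
  have hqp : q.Prime := Nat.minFac_prime hc1
  obtain ⟨e, he⟩ := Nat.minFac_dvd c
  have hqn : q ∣ n := ⟨g * e, by rw [hc, he]; ring⟩
  have hnq : n / q = g * e := by
    rw [hc, he]
    rw [show g * (q * e) = q * (g * e) by ring]
    exact Nat.mul_div_cancel_left _ hqp.pos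
  have h3 : r ∣ a ^ (n / q) - 1 := h2.trans (pow_sub_one_dvd (by rw [hnq]; exact Dvd.intro _ rfl))
  have h4 := eq_of_dvd ha hn hr hqp hrF hqn h3
  rw [h4]
  exact ⟨hqn, h4 ▸ h3⟩

theorem not_dvd_base {n a r : ℕ} (ha : 1 < a) (hn : 0 < n) (hr : r.Prime) (h : r ∣ a ^ n - 1) :
    ¬ r ∣ a := by
  intro h1
  have h2 : r ∣ a ^ n := dvd_pow h1 hn.ne'
  have h3 : 1 ≤ a ^ n := Nat.one_le_pow _ _ (by omega)
  have h4 : r ∣ 1 := by
    have := (Nat.dvd_sub h2 h)
    rwa [Nat.sub_sub_self h3] at this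
  exact hr.one_lt.ne' (Nat.dvd_one.mp h4)

theorem no_larger_prime {n a r s : ℕ} (ha : 1 < a) (hn : 0 < n) (hr : r.Prime) (hs : s.Prime)
    (hrF : r ∣ F n a) (hsn : s ∣ n) (hrs : r < s) : False := by
  have h1 : r ∣ a ^ n - 1 := hrF.trans (F_dvd_pow_sub_one ha)
  have hra : ¬ r ∣ a := not_dvd_base ha hn hr h1
  have hcop : Nat.Coprime a r := ((Nat.Prime.coprime_iff_not_dvd hr).mpr hra).symm
  have h2 : r ∣ a ^ (r - 1) - 1 := by
    have := Nat.ModEq.pow_totient hcop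
    rw [Nat.totient_prime hr] at this
    exact (Nat.modEq_iff_dvd' (Nat.one_le_pow _ _ (by omega))).mp this.symm
  have h3 : r ∣ a ^ (Nat.gcd (r - 1) n) - 1 := by
    rw [← Nat.pow_sub_one_gcd_pow_sub_one]
    exact Nat.dvd_gcd h2 h1
  set g := Nat.gcd (r - 1) n with hg
  have hg0 : 0 < g := Nat.gcd_pos_of_pos_right _ hn
  have hr1 : 0 < r - 1 := by have := hr.one_lt; omega
  have hgr : g ≤ r - 1 := Nat.le_of_dvd hr1 (Nat.gcd_dvd_left _ _)
  have hgs : Nat.Coprime g s := by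
    apply Nat.Coprime.symm
    rw [Nat.Prime.coprime_iff_not_dvd hs]
    exact Nat.not_dvd_of_pos_of_lt hg0 (by omega)
  have hgn : g ∣ s * (n / s) := by
    rw [Nat.mul_div_cancel' hsn]; exact Nat.gcd_dvd_right _ _
  have h4 : g ∣ n / s := hgs.dvd_of_dvd_mul_left hgn
  have h5 := eq_of_dvd ha hn hr hs hrF hsn (h3.trans (pow_sub_one_dvd h4))
  omega

theorem not_sq_dvd_odd {n a r : ℕ} (ha : 1 < a) (hn : 0 < n) (hr : r.Prime) (hodd : Odd r)
    (hrn : r ∣ n) (h : r ∣ a ^ (n / r) - 1) : ¬ r ^ 2 ∣ F n a := by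
  intro hsq
  haveI : Fact r.Prime := ⟨hr⟩
  set b := a ^ (n / r) with hb
  have hnr : 0 < n / r := Nat.div_pos (Nat.le_of_dvd hn hrn) hr.pos
  have hb1 : 1 < b := Nat.one_lt_pow hnr.ne' ha
  have hrb : ¬ r ∣ b := by
    intro h1
    have h4 : r ∣ 1 := by
      have := (Nat.dvd_sub h1 h)
      rwa [Nat.sub_sub_self hb1.le] at this
    exact hr.one_lt.ne' (Nat.dvd_one.mp h4)
  have h1 := padicValNat.pow_sub_pow hodd hb1 h hrb hr.ne_zero
  rw [one_pow, padicValNat_self, ← geom_nat b r hb1.le] at h1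
  have hS0 : (∑ i ∈ range r, b ^ i) ≠ 0 := by
    intro h0
    have := geom_nat b r hb1.le
    rw [h0, zero_mul] at this
    have h5 : 1 < b ^ r := Nat.one_lt_pow hr.ne_zero hb1
    omega
  rw [padicValNat.mul hS0 (by omega)] at h1
  have h2 : padicValNat r (∑ i ∈ range r, b ^ i) = 1 := by omega
  have h3 := hsq.trans (F_dvd_geom ha hn hr.one_lt hrn)
  rw [padicValNat_dvd_iff_le hS0, h2] at h3
  omega

theorem not_sq_dvd_two {n a : ℕ} (ha : 1 < a) (hn : 2 < n) (h2F : 2 ∣ F n a) : ¬ 2 ^ 2 ∣ F n a := by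
  intro hsq
  have hn0 : 0 < n := by omega
  have huniq : ∀ {d : ℕ}, d.Prime → d ∣ n → d = 2 := by
    intro d hd hdn
    by_contra hne
    have : 2 < d := lt_of_le_of_ne hd.two_le (Ne.symm hne)
    exact no_larger_prime ha hn0 Nat.prime_two hd h2F hdn this
  have hpow := Nat.eq_prime_pow_of_unique_prime_dvd hn0.ne' huniq
  set k := n.primeFactorsList.length with hk
  have hk2 : 2 ≤ k := by
    by_contra hlt
    have : k = 0 ∨ k = 1 := by omega
    rcases this with h | h <;> rw [h] at hpow <;> omega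
  obtain ⟨j, hj⟩ : ∃ j, k = j + 2 := ⟨k - 2, by omega⟩
  have hn4 : n = 2 * (2 * 2 ^ j) := by rw [hpow, hj]; ring
  have h2n : 2 ∣ n := ⟨_, hn4⟩
  have hn2 : n / 2 = 2 * 2 ^ j := by rw [hn4]; exact Nat.mul_div_cancel_left _ (by norm_num)
  have h1 := hsq.trans (F_dvd_geom ha hn0 (by norm_num) h2n)
  rw [hn2, sum_range_succ, sum_range_one, pow_zero, pow_one, pow_mul] at h1
  have hodd : ¬ 2 ∣ a := not_dvd_base ha hn0 Nat.prime_two (h2F.trans (F_dvd_pow_sub_one ha))
  have hc : Odd ((a ^ 2) ^ 2 ^ j) := by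
    apply Odd.pow
    apply Odd.pow
    exact Nat.odd_iff.mpr (by omega)
  -- a^2 ≡ 1 mod 4
  obtain ⟨t, ht⟩ : Odd (a ^ 2 ^ j) := Odd.pow (Nat.odd_iff.mpr (by omega))
  have e : (a ^ 2) ^ 2 ^ j = 4 * (t * t + t) + 1 := by
    rw [← pow_mul, mul_comm, pow_mul, ht]; ring
  rw [e] at h1
  omega

theorem two_pow_gt (r : ℕ) (hr : 4 ≤ r) : 3 * r + 1 < 2 ^ r := by
  induction r, hr using Nat.le_induction with
  | base => norm_num
  | succ k hk ih => rw [pow_succ]; omega

/-- **Zsigmondy's theorem** (Bang's case `b = 1`). -/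
theorem zsigmondy (a n : ℕ) (ha : 1 < a) (hn : 1 < n) (h6 : ¬ (a = 2 ∧ n = 6))
    (h2 : ¬ (n = 2 ∧ ∃ m : ℕ, a + 1 = 2 ^ m)) :
    ∃ r : ℕ, r.Prime ∧ r ∣ a ^ n - 1 ∧ ∀ k : ℕ, 0 < k → k < n → ¬ r ∣ a ^ k - 1 := by
  by_cases hn2 : n = 2
  · subst hn2
    rcases Nat.eq_two_pow_or_exists_odd_prime_and_dvd (a + 1) with ⟨m, hm⟩ | ⟨r, hr, hra, hodd⟩
    · exact absurd ⟨rfl, m, hm⟩ h2
    · refine ⟨r, hr, ?_, ?_⟩
      · have : a ^ 2 - 1 = (a + 1) * (a - 1) := by
          obtain ⟨x, rfl⟩ : ∃ x, a = x + 1 := ⟨a - 1, by omega⟩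
          simp only [Nat.add_sub_cancel]
          have : (x + 1) ^ 2 = (x + 1 + 1) * x + 1 := by ring
          omega
        rw [this]
        exact Dvd.dvd.mul_right hra _
      · intro k hk0 hk2 hdvd
        have hk1 : k = 1 := by omega
        rw [hk1, pow_one] at hdvd
        have h3 : r ∣ 2 := by
          have := Nat.dvd_sub hra hdvd
          have e : a + 1 - (a - 1) = 2 := by omega
          rwa [e] at this
        have h4 : r = 2 := (Nat.prime_dvd_prime_iff_eq hr Nat.prime_two).mp h3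
        rw [h4] at hodd
        exact absurd hodd (by decide)
  have hn3 : 2 < n := by omega
  have hn0 : 0 < n := by omega
  by_contra hcon
  push Not at hcon
  set N := F n a with hN
  have hN1 : 1 < N := by
    have := F_gt hn ha
    omega
  have hnp : ∀ r : ℕ, r.Prime → r ∣ N → r ∣ n ∧ r ∣ a ^ (n / r) - 1 := by
    intro r hr hrN
    obtain ⟨k, hk0, hkn, hk⟩ := hcon r hr (hrN.trans (F_dvd_pow_sub_one ha))
    exact nonprimitive ha hr hrN hk0 hkn hk
  set r := Nat.minFac N with hrdef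
  have hr : r.Prime := Nat.minFac_prime hN1.ne'
  have hrN : r ∣ N := Nat.minFac_dvd N
  obtain ⟨hrn, hra⟩ := hnp r hr hrN
  have huniq : ∀ {d : ℕ}, d.Prime → d ∣ N → d = r := by
    intro d hd hdN
    obtain ⟨hdn, -⟩ := hnp d hd hdN
    rcases lt_trichotomy d r with h | h | h
    · exact (no_larger_prime ha hn0 hd hr hdN hrn h).elim
    · exact h
    · exact (no_larger_prime ha hn0 hr hd hrN hdn h).elim
  have hNr : N = r := by
    have hpow := Nat.eq_prime_pow_of_unique_prime_dvd (by omega) huniq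
    set e := N.primeFactorsList.length with he
    have hsq : ¬ r ^ 2 ∣ N := by
      rcases hr.eq_two_or_odd' with h | h
      · rw [h]
        exact not_sq_dvd_two ha hn3 (h ▸ hrN)
      · exact not_sq_dvd_odd ha hn0 hr h hrn hra
    have he2 : e < 2 := by
      by_contra hge
      apply hsq
      rw [hpow]
      exact pow_dvd_pow r (by omega)
    have : e = 0 ∨ e = 1 := by omega
    rcases this with h | h
    · rw [h, pow_zero] at hpow; omega
    · rw [h, pow_one] at hpow; exact hpow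
  obtain ⟨m', hm'⟩ := hrn
  have hm'0 : 0 < m' := by
    rcases Nat.eq_zero_or_pos m' with h | h
    · rw [h] at hm'; omega
    · exact h
  have hnm : m' * r = n := by rw [hm', mul_comm]
  have h2r : r < 2 ^ r := Nat.lt_two_pow_self
  have har : 2 ^ r ≤ a ^ r := Nat.pow_le_pow_left ha r
  have har1 : 1 < a ^ r := by
    have := hr.two_le
    omega
  by_cases hrm : r ∣ m'
  · have e1 := F_expand_of_dvd (a := a) hr hrm
    rw [hnm, ← hN, hNr] at e1
    have hm1 : 1 < m' := lt_of_lt_of_le hr.one_lt (Nat.le_of_dvd hm'0 hrm)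
    have := F_gt hm1 har1
    omega
  · have e1 := F_expand_of_not_dvd (a := a) hr hrm
    rw [hnm, ← hN, hNr] at e1
    by_cases ha3 : 3 ≤ a
    · have h3 := F_lower_strict hn ha
      have h4 : 2 ^ Nat.totient n ≤ (a - 1) ^ Nat.totient n := Nat.pow_le_pow_left (by omega) _
      have h5 : r - 1 ≤ Nat.totient n := by
        have h6 : Nat.totient r ∣ Nat.totient n := Nat.totient_dvd_of_dvd ⟨m', hm'⟩
        rw [Nat.totient_prime hr] at h6
        exact Nat.le_of_dvd (Nat.totient_pos.mpr hn0) h6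
      have h7 : 2 ^ (r - 1) ≤ 2 ^ Nat.totient n := Nat.pow_le_pow_right (by norm_num) h5
      have h8 : r - 1 < 2 ^ (r - 1) := Nat.lt_two_pow_self
      rw [← hN, hNr] at h3
      omega
    · have ha2 : a = 2 := by omega
      subst ha2
      have hlow := F_lower (m := m') har1
      have hup := F_upper (m := m') ha
      set φ := Nat.totient m' with hφ
      have hφ0 : φ ≠ 0 := (Nat.totient_pos.mpr hm'0).ne'
      have hr4 : r < 4 := by
        by_contra hge
        have h9 := two_pow_gt r (by omega)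
        have h10 : (r * (2 + 1)) ^ φ < (2 ^ r - 1) ^ φ := Nat.pow_lt_pow_left (by omega) hφ0
        have h11 : r * (2 + 1) ^ φ ≤ (r * (2 + 1)) ^ φ := by
          rw [mul_pow]
          exact Nat.mul_le_mul_right _ (Nat.le_self_pow hφ0 r)
        have h12 : r * F m' 2 ≤ r * (2 + 1) ^ φ := Nat.mul_le_mul_left _ hup
        omega
      have hr23 : r = 2 ∨ r = 3 := by
        have := hr.two_le
        interval_cases r
        · left; rfl
        · right; rfl
      rcases hr23 with h | h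
      · -- r = 2 : N is odd
        have h13 : 2 ∣ 2 ^ n - 1 := (h ▸ hrN).trans (F_dvd_pow_sub_one ha)
        exact not_dvd_base ha hn0 Nat.prime_two h13 (dvd_refl 2)
      · rw [h] at hra hrm hm' hrN
        have hn3' : n / 3 = m' := by rw [hm']; exact Nat.mul_div_cancel_left _ (by norm_num)
        rw [hn3'] at hra
        -- m' is even
        have hev : Even m' := by
          by_contra hodd
          rw [Nat.not_even_iff_odd] at hodd
          obtain ⟨t, ht⟩ := hodd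
          have h14 : 2 ^ m' = 2 * 4 ^ t := by rw [ht, pow_succ, pow_mul]; norm_num; ring
          have h15 : 4 ^ t % 3 = 1 := by
            rw [Nat.pow_mod]; norm_num
          have h16 : 1 ≤ 4 ^ t := Nat.one_le_pow _ _ (by norm_num)
          rw [h14] at hra
          omega
        obtain ⟨c, hc⟩ := hev
        have hc1 : c ≠ 1 := by
          rintro rfl
          apply h6
          exact ⟨rfl, by omega⟩
        set s := Nat.minFac c with hs
        have hsp : s.Prime := Nat.minFac_prime hc1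
        obtain ⟨e, he⟩ := Nat.minFac_dvd c
        have hn6 : n = s * (6 * e) := by rw [hm', hc, he]; ring
        have hns : n / s = 6 * e := by rw [hn6]; exact Nat.mul_div_cancel_left _ hsp.pos
        have h17 : 3 ∣ 2 ^ (n / s) - 1 := by
          rw [hns]
          have : 2 ^ 6 - 1 ∣ 2 ^ (6 * e) - 1 := pow_sub_one_dvd (Dvd.intro _ rfl)
          exact Dvd.dvd.trans (by norm_num) this
        have h18 := eq_of_dvd ha hn0 Nat.prime_three hsp hrN ⟨_, hn6⟩ h17
        apply hrm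
        have h19 : 3 ∣ c := by rw [h18]; exact Nat.minFac_dvd c
        rw [hc]
        exact dvd_add h19 h19

end Cfsg.Agent.Lib.Helper20.Zsig
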